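import Cfsg.Agent.Lib.FischerTwins.Vec
import Cfsg.Agent.Lib.FischerSolvable.Model
import Cfsg.Prelude.Def_Classical

set_option autoImplicit false
set_option maxRecDepth 100000

/-!
Tables: isotropic points over four elements and vectors of value one over two elements, with vectors of
one norm in five dimensions over three elements having the same orthogonality.
-/

namespace Cfsg.Agent.FischerO3

open Cfsg.Agent.RigidGraph.He
open Cfsg.Agent.FischerTwins (hf)
open Cfsg.Agent.FischerSolvable.Model (vec)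

/-- The inner product. -/
def ip5 (u v : Fin 5 → ZMod 3) : ZMod 3 := ∑ k, u k * v k

/-- A coded vector over three elements. -/
def dec3 (c : ℕ) : Fin 5 → ZMod 3 := fun k => ((c / 3 ^ (k : ℕ) % 3 : ℕ) : ZMod 3)

/-! ### The unitary group -/

/-- The isotropic points. -/
def ureps : List ℕ := [80, 144, 208, 68, 132, 196, 20, 36, 52, 65, 129, 193, 17, 33, 49, 5, 85, 149, 213, 101,
  165, 229, 117, 181, 245, 9, 89, 153, 217, 105, 169, 233, 121, 185, 249, 13, 93, 157, 221, 109, 173, 237,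
  125, 189, 253]

/-- Their images. -/
def uimg : List ℕ := [81, 94, 175, 196, 154, 210, 115, 235, 129, 223, 127, 237, 142, 208, 156, 27, 9, 106, 97,
  187, 3, 184, 178, 103, 1, 40, 70, 112, 201, 193, 52, 118, 120, 199, 76, 67, 79, 145, 220, 226, 49, 147, 139,
  228, 43]

/-- An isotropic point. -/
def urep (i : Fin 45) : Fin 4 → K4 := vec 4 (ureps.getD i 0)

/-- Its image. -/
def upt (i : Fin 45) : Fin 5 → ZMod 3 := dec3 (uimg.getD i 0)

theorem urep_iso : ∀ i, hf 4 (urep i) (urep i) = 0 ∧ urep i ≠ 0 := by decide +kernel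

theorem urep_cover : ∀ v : Fin 4 → K4, v ≠ 0 → hf 4 v v = 0 → ∃ i, ∃ k : K4, k ≠ 0 ∧ v = k • urep i := by
  decide +kernel

theorem urep_rows : ∀ i i', (∀ j, hf 4 (urep i) (urep j) = 0 ↔ hf 4 (urep i') (urep j) = 0) → i = i' := by
  decide +kernel

theorem urep_table : ∀ i j, i ≠ j → (hf 4 (urep i) (urep j) = 0 ↔ ip5 (upt i) (upt j) = 0) := by
  decide +kernel

theorem upt_norm : ∀ i, ip5 (upt i) (upt i) = 1 := by decide +kernel

theorem upt_inj : ∀ i j, (upt i = upt j ∨ upt i = -upt j) → i = j := by decide +kernel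

theorem upt_surj : ∀ v, ip5 v v = 1 → ∃ i, upt i = v ∨ upt i = -v := by decide +kernel

/-! ### The orthogonal group of minus type -/

/-- The vectors of value one. -/
def mreps : List ℕ := [32, 16, 48, 40, 24, 56, 36, 20, 52, 44, 28, 60, 34, 18, 50, 10, 38, 22, 54, 14, 33, 17, 49,
  41, 25, 57, 5, 13, 35, 19, 51, 11, 7, 47, 31, 63]

/-- Their images. -/
def mimg : List ℕ := [108, 90, 63, 189, 171, 36, 12, 30, 165, 21, 57, 84, 211, 229, 121, 157, 151, 133, 241, 205,
  10, 28, 163, 19, 55, 82, 7, 4, 214, 232, 124, 160, 202, 148, 130, 238]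

/-- The index of a coordinate. -/
def cidx : (Fin 2 ⊕ Fin 2) ⊕ Fin 2 → ℕ :=
  Sum.elim (Sum.elim (fun a => (a : ℕ)) (fun a => 2 + (a : ℕ))) (fun a => 4 + (a : ℕ))

/-- A vector of value one. -/
def mrep (i : Fin 36) : (Fin 2 ⊕ Fin 2) ⊕ Fin 2 → ZMod 2 := fun k =>
  ((mreps.getD i 0 / 2 ^ cidx k % 2 : ℕ) : ZMod 2)

/-- Its image. -/
def mpt (i : Fin 36) : Fin 5 → ZMod 3 := dec3 (mimg.getD i 0)

/-- The form. -/
abbrev qm : ((Fin 2 ⊕ Fin 2) ⊕ Fin 2 → ZMod 2) → ZMod 2 := Cfsg.quadFormMinus 2 (ZMod 2) 1 1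

theorem mrep_one : ∀ i, qm (mrep i) = 1 := by decide +kernel

theorem mrep_inj : ∀ i j, mrep i = mrep j → i = j := by decide +kernel

theorem mrep_cover : ∀ v, qm v = 1 → ∃ i, mrep i = v := by decide +kernel

theorem mrep_table : ∀ i j, i ≠ j →
    (qm (mrep i + mrep j) - qm (mrep i) - qm (mrep j) = 0 ↔ ip5 (mpt i) (mpt j) = 0) := by decide +kernel

theorem mpt_norm : ∀ i, ip5 (mpt i) (mpt i) = 2 := by decide +kernel

theorem mpt_inj : ∀ i j, (mpt i = mpt j ∨ mpt i = -mpt j) → i = j := by decide +kernel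

theorem mpt_surj : ∀ v, ip5 v v = 2 → ∃ i, mpt i = v ∨ mpt i = -v := by decide +kernel

end Cfsg.Agent.FischerO3
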