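import Cfsg.Agent.Lib.FischerO3.Recog
import Cfsg.Agent.Lib.FischerO3.BasesData
import Cfsg.Agent.Lib.FischerClass.Kinds
import Cfsg.Agent.Lib.FischerClass.Model
import Mathlib.LinearAlgebra.Matrix.SchurComplement

set_option autoImplicit false
set_option maxRecDepth 100000

/-!
The unitary group of dimension four over four elements and the orthogonal group of minus type of dimension
six over two elements are projective reflection groups of dimension five over three elements.
-/

namespace Cfsg.Agent.FischerO3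

open Cfsg.Agent.Fischer Cfsg.Agent.FischerClass
open Cfsg.Agent.RigidGraph.He
open Cfsg.Agent.FischerTwins (hf ptr)
open Cfsg.Agent.FischerSolvable.Model (tv tr mv mv_ext mv_tr vec)

variable {G : Type*} [Group G] {D : Set G}

/-- Five dimensions with the sum of squares. -/
noncomputable def Q5 : QuadraticForm (ZMod 3) (Fin 5 → ZMod 3) :=
  QuadraticMap.weightedSumSquares (ZMod 3) (fun _ : Fin 5 => (1 : ZMod 3))

theorem Q5_apply (v : Fin 5 → ZMod 3) : Q5 v = ip5 v v := by
  simp [Q5, ip5, QuadraticMap.weightedSumSquares_apply]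

theorem Q5_polar (u v : Fin 5 → ZMod 3) : QuadraticMap.polar Q5 u v = 2 * ip5 u v := by
  simp only [QuadraticMap.polar, Q5_apply, ip5, Pi.add_apply, Finset.mul_sum, ← Finset.sum_sub_distrib]
  exact Finset.sum_congr rfl fun k _ => by ring

theorem Q5_nondeg : (QuadraticMap.polarBilin Q5).Nondegenerate := by
  have hz : ∀ v : Fin 5 → ZMod 3, (∀ w, QuadraticMap.polar Q5 v w = 0) → v = 0 := fun v h => funext fun k => by
    have hk := h (Pi.single k 1)
    have e : ip5 v (Pi.single k 1) = v k := by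
      rw [ip5, Finset.sum_eq_single k (fun b _ hb => by simp [Pi.single_eq_of_ne hb])
        (fun h => absurd (Finset.mem_univ k) h), Pi.single_eq_same, mul_one]
    rw [Q5_polar, e] at hk
    simp only [Pi.zero_apply]
    generalize v k = t at hk
    revert hk; revert t; decide
  exact ⟨fun v h => hz v h, fun v h => hz v fun w => by rw [QuadraticMap.polar_comm]; exact h w⟩

/-- Recognition from a table of vectors. -/
theorem of_table [Finite G] (hS : Std D) {N : ℕ} (P : Fin N → Fin 5 → ZMod 3) {c : ZMod 3} (hc : c ≠ 0)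
    (hP : ∀ i, ip5 (P i) (P i) = c) (hPinj : ∀ i j, (P i = P j ∨ P i = -P j) → i = j)
    (hPsurj : ∀ v, ip5 v v = c → ∃ i, P i = v ∨ P i = -v)
    (ψ : G → Fin N) (hinj : ∀ x ∈ D, ∀ y ∈ D, ψ x = ψ y → x = y) (hsurj : ∀ i, ∃ x ∈ D, ψ x = i)
    (hcomm : ∀ x ∈ D, ∀ y ∈ D, x ≠ y → (Commute x y ↔ ip5 (P (ψ x)) (P (ψ y)) = 0)) : IsOThree D 5 := by
  refine recog hS.tg hS.cz Q5 Q5_nondeg le_rfl hc (fun x => P (ψ x)) (fun x _ => by rw [Q5_apply]; exact hP _)
    (fun x hx y hy h => hinj x hx y hy (hPinj _ _ h)) (fun v hv => ?_) (fun x hx y hy h => ?_)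
  · rw [Q5_apply] at hv
    obtain ⟨i, hi⟩ := hPsurj v hv
    obtain ⟨x, hx, rfl⟩ := hsurj i
    exact ⟨x, hx, hi⟩
  · rw [hcomm x hx y hy h, Q5_polar, mul_eq_zero, or_iff_right (by decide : (2 : ZMod 3) ≠ 0)]

/-! ### The unitary group -/

/-- Elements with a one-dimensional displacement are transvections along isotropic vectors. -/
theorem exists_tr {n : ℕ} (hn : 0 < n) (g : Cfsg.SU n K4 2)
    (hg : (((g : Matrix.SpecialLinearGroup (Fin n) K4) : Matrix (Fin n) (Fin n) K4) - 1).rank = 1) :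
    ∃ v, v ≠ 0 ∧ hf n v v = 0 ∧ g = tr v := by
  set A : Matrix (Fin n) (Fin n) K4 := ((g : Matrix.SpecialLinearGroup (Fin n) K4) : Matrix (Fin n) (Fin n) K4)
  obtain ⟨⟨v, hv⟩, hv0, hspan⟩ := finrank_eq_one_iff'.1 hg
  have hv0' : v ≠ 0 := fun e => hv0 (Subtype.ext e)
  have hcoef : ∀ x, ∃ a : K4, mv g x = x + a • v := fun x => by
    obtain ⟨a, ha⟩ := hspan ⟨(A - 1).mulVecLin x, LinearMap.mem_range_self _ x⟩
    refine ⟨a, ?_⟩
    have h2 : a • v = (A - 1).mulVec x := congrArg Subtype.val ha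
    rw [h2, Matrix.sub_mulVec, Matrix.one_mulVec, add_sub_cancel]
    rfl
  choose a ha using hcoef
  have hA : A = 1 + Matrix.replicateCol Unit v * Matrix.replicateRow Unit (fun j => a (Pi.single j 1)) := by
    refine Matrix.ext fun i j => ?_
    have h1 := congrFun (ha (Pi.single j 1)) i
    change (A.mulVec (Pi.single j 1)) i = _ at h1
    rw [Matrix.mulVec_single_one] at h1
    simp only [Matrix.col_apply, Pi.add_apply, Pi.smul_apply, smul_eq_mul] at h1
    rw [h1]
    simp [Matrix.one_apply, Pi.single_apply, Matrix.mul_apply, mul_comm]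
  have hfv : (fun j => a (Pi.single j 1)) ⬝ᵥ v = 0 := by
    have h1 : A.det = 1 := (g : Matrix.SpecialLinearGroup (Fin n) K4).2
    rw [hA, Matrix.det_one_add_replicateCol_mul_replicateRow] at h1
    exact add_eq_left.1 h1
  have hgv : mv g v = v := by
    show A.mulVec v = v
    rw [hA, Matrix.add_mulVec, Matrix.one_mulVec, ← Matrix.mulVec_mulVec]
    funext i
    simp only [Pi.add_apply]
    rw [add_eq_left]
    have h2 : (Matrix.replicateRow Unit fun j => a (Pi.single j 1)).mulVec v = 0 := funext fun _ => hfv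
    rw [h2, Matrix.mulVec_zero]
    rfl
  have hiso : ∀ x y, hf n (mv g x) (mv g y) = hf n x y := fun x y => g.2 x y
  obtain ⟨x₀, hx₀⟩ : ∃ x, a x ≠ 0 := by
    by_contra hno
    push Not at hno
    refine hv0 (Subtype.ext ?_)
    obtain ⟨y, hy⟩ := hv
    show v = 0
    rw [← hy]
    show (A - 1).mulVec y = 0
    rw [Matrix.sub_mulVec, Matrix.one_mulVec]
    show mv g y - y = 0
    rw [ha, hno, zero_smul, add_zero, sub_self]
  have hvv : hf n v v = 0 := by
    have h1 := hiso x₀ v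
    rw [hgv, ha, FischerTwins.hf_add_left, FischerTwins.hf_smul_left, add_eq_left] at h1
    exact (mul_eq_zero.1 h1).resolve_left hx₀
  have hrel : ∀ x y, a x * hf n v y + a y ^ 2 * hf n x v = 0 := fun x y => by
    have h1 := hiso x y
    rw [ha, ha, FischerTwins.hf_add_left, FischerTwins.hf_add_right, FischerTwins.hf_smul_right,
      FischerTwins.hf_smul_left, FischerTwins.hf_add_right, FischerTwins.hf_smul_right, hvv, mul_zero, add_zero,
      add_assoc, add_eq_left, add_comm] at h1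
    exact h1
  obtain ⟨i, hi⟩ : ∃ i, v i ≠ 0 := by
    by_contra hno
    push Not at hno
    exact hv0' (funext hno)
  set w : Fin n → K4 := Pi.single i (v i) with hw
  have hy : hf n w v = 1 := by
    rw [hw, FischerTwins.hf_single_left]
    exact FischerTwins.K4.cube_one _ hi
  have hy' : hf n v w = 1 := by rw [FischerTwins.hf_symm, hy, one_pow]
  have hk : ∀ x, a x = a w ^ 2 * hf n x v := fun x => by
    have h1 := hrel x w
    rw [hy', mul_one] at h1
    exact (by decide : ∀ p q : K4, p + q = 0 → p = q) _ _ h1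
  have hk1 : a w = 1 := by
    have h1 := hk w
    rw [hy, mul_one] at h1
    refine ((by decide : ∀ p : K4, p = p ^ 2 → p = 0 ∨ p = 1) _ h1).resolve_left fun h0 => hx₀ ?_
    rw [hk x₀, h0]
    simp
  refine ⟨v, hv0', hvv, mv_ext fun x => ?_⟩
  rw [mv_tr hn hvv, ha, hk x, hk1, one_pow, one_mul]
  rfl

theorem rank_tr {n : ℕ} (hn : 0 < n) {v : Fin n → K4} (hv : hf n v v = 0) (hv0 : v ≠ 0) :
    (((tr v : Cfsg.SU n K4 2) : Matrix.SpecialLinearGroup (Fin n) K4) : Matrix (Fin n) (Fin n) K4) - 1 =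
      Matrix.vecMulVec v (fun j => hf n (Pi.single j 1) v) := by
  refine Matrix.ext_of_mulVec_single fun j => ?_
  rw [Matrix.sub_mulVec, Matrix.one_mulVec]
  show mv (tr v) (Pi.single j 1) - Pi.single j 1 = _
  rw [mv_tr hn hv]
  funext k
  simp [Matrix.vecMulVec_apply, tv, hf, mul_comm]

theorem rank_tr_one {n : ℕ} (hn : 0 < n) {v : Fin n → K4} (hv : hf n v v = 0) (hv0 : v ≠ 0) :
    ((((tr v : Cfsg.SU n K4 2) : Matrix.SpecialLinearGroup (Fin n) K4) : Matrix (Fin n) (Fin n) K4) - 1).rank = 1 := by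
  rw [rank_tr hn hv hv0]
  obtain ⟨i, hi⟩ : ∃ i, v i ≠ 0 := by
    by_contra hno
    push Not at hno
    exact hv0 (funext hno)
  refine le_antisymm (Matrix.rank_vecMulVec_le _ _) (Nat.one_le_iff_ne_zero.2 fun h0 => ?_)
  have h1 := LinearMap.range_eq_bot.1 (Submodule.finrank_eq_zero.1 h0)
  have h2 := congrFun (LinearMap.congr_fun h1 (Pi.single i 1)) i
  simp only [Matrix.mulVecLin_apply, Matrix.mulVec_single_one, Matrix.col_apply, Matrix.vecMulVec_apply,
    FischerTwins.hf_single_left, one_mul, LinearMap.zero_apply, Pi.zero_apply] at h2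
  exact hi ((mul_eq_zero.1 h2).elim id fun h => eq_zero_of_pow_eq_zero h)

/-- The unitary group of dimension four. -/
theorem of_u_four [Finite G] (hS : Std D) (h : IsUn D 4) : IsOThree D 5 := by
  classical
  obtain ⟨e, he⟩ := h
  have hn : 0 < 4 := by decide
  have hex : ∀ x ∈ D, ∃ i, e x = ptr (urep i) := fun x hx => by
    have hm := he.le ⟨x, hx, rfl⟩
    obtain ⟨g, hg, hge⟩ := hm
    have h1 := exists_tr hn g hg
    obtain ⟨v, hv0, hv, hgv⟩ := h1
    have h2 := urep_cover v hv0 hv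
    obtain ⟨i, k, hk, hvk⟩ := h2
    refine ⟨i, hge.symm.trans ?_⟩
    rw [hgv, hvk, FischerTwins.tr_scalar hn hk (urep_iso i).1]
    rfl
  obtain ⟨ψ, hψ⟩ : ∃ ψ : G → Fin 45, ∀ x ∈ D, e x = ptr (urep (ψ x)) :=
    ⟨fun x => if h : x ∈ D then (hex x h).choose else 0, fun x hx => by
      simp only [dif_pos hx]; exact (hex x hx).choose_spec⟩
  have hcm : ∀ i j, Commute (ptr (urep i)) (ptr (urep j)) ↔ hf 4 (urep i) (urep j) = 0 := fun i j =>
    ⟨FischerTwins.orth_of_commute hn (urep_iso i).1 (urep_iso j).1 (urep_iso i).2,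
      fun h => (FischerTwins.tr_commute hn (urep_iso i).1 (urep_iso j).1 h).map _⟩
  refine of_table hS upt one_ne_zero upt_norm upt_inj upt_surj ψ
    (fun x hx y hy h => e.injective (by rw [hψ x hx, hψ y hy, h])) (fun i => ?_) (fun x hx y hy hne => ?_)
  · have hm : ptr (urep i) ∈ e '' D :=
      he.ge ⟨tr (urep i), rank_tr_one hn (urep_iso i).1 (urep_iso i).2, rfl⟩
    obtain ⟨x, hx, hxe⟩ := hm
    refine ⟨x, hx, urep_rows _ _ fun j => ?_⟩
    rw [← hcm, ← hcm, ← hψ x hx, hxe]
  · have h1 : Commute x y ↔ Commute (e x) (e y) :=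
      ⟨fun h => h.map e, fun h => by simpa using h.map e.symm⟩
    rw [h1, hψ x hx, hψ y hy, hcm]
    exact urep_table _ _ fun h => hne (e.injective (by rw [hψ x hx, hψ y hy, h]))

/-! ### The orthogonal group of minus type -/

/-- A model over six dimensions of minus type gives the reflection group. -/
theorem of_minus_model [Finite G] (hS : Std D) {φ : G → (Fin 2 ⊕ Fin 2) ⊕ Fin 2 → ZMod 2}
    (h : OrthModel D qm φ) : IsOThree D 5 := by
  classical
  obtain ⟨ψ, hψ⟩ : ∃ ψ : G → Fin 36, ∀ x ∈ D, mrep (ψ x) = φ x :=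
    ⟨fun x => if h' : x ∈ D then (mrep_cover _ (h.q_one x h')).choose else 0, fun x hx => by
      simp only [dif_pos hx]; exact (mrep_cover _ (h.q_one x hx)).choose_spec⟩
  refine of_table hS mpt (by decide : (2 : ZMod 3) ≠ 0) mpt_norm mpt_inj mpt_surj ψ
    (fun x hx y hy e => h.inj x hx y hy (by rw [← hψ x hx, ← hψ y hy, e])) (fun i => ?_) (fun x hx y hy hne => ?_)
  · obtain ⟨x, hx, hxi⟩ := h.surj _ (mrep_one i)
    exact ⟨x, hx, mrep_inj _ _ ((hψ x hx).trans hxi)⟩
  · rw [← mrep_table _ _ fun e => hne (h.inj x hx y hy (by rw [← hψ x hx, ← hψ y hy, e])), hψ x hx, hψ y hy,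
      ← nc_eq_zero_iff, ← h.pol_eq x hx y hy]
    rfl

/-- The orthogonal group of minus type in dimension six. -/
theorem of_minus_six [Finite G] (hS : Std D)
    (h : ∃ e : G ≃* ↥(Cfsg.isometryGroup (ZMod 2) qm), e '' D = {g : ↥(Cfsg.isometryGroup (ZMod 2) qm) |
      (((g : GL ((Fin 2 ⊕ Fin 2) ⊕ Fin 2) (ZMod 2)) :
        Matrix ((Fin 2 ⊕ Fin 2) ⊕ Fin 2) ((Fin 2 ⊕ Fin 2) ⊕ Fin 2) (ZMod 2)) - 1).rank = 1}) :
    IsOThree D 5 := by
  obtain ⟨e, he⟩ := h
  obtain ⟨φ, hφ⟩ := exists_orthModel (AutPOmega.geo_minus minus_form 2) e he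
  exact of_minus_model hS hφ

end Cfsg.Agent.FischerO3
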