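import Cfsg.Agent.Lib.FischerO3.Step
import Cfsg.Agent.Lib.FischerO3.Bases

set_option autoImplicit false

/-!
The steps from the two bases.
-/

namespace Cfsg.Agent.FischerO3

open Cfsg.Agent.Fischer.Factor Cfsg.Agent.FischerClass

variable {G : Type*} [Group G] {D : Set G} [Finite G]

theorem step_u_four (hL : Loc D) {d : G} (hd : d ∈ D) (h : IsUn (img D d) 4) : IsOThree D 6 :=
  step hL hd le_rfl (of_u_four (hL.std_img hd) h)

theorem step_minus_six (hL : Loc D) {d : G} (hd : d ∈ D) {φ : Q D d → (Fin 2 ⊕ Fin 2) ⊕ Fin 2 → ZMod 2}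
    (h : OrthModel (img D d) qm φ) : IsOThree D 6 :=
  step hL hd le_rfl (of_minus_model (hL.std_img hd) h)

end Cfsg.Agent.FischerO3
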