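import Cfsg.Agent.Lib.FischerO3.Common
import Mathlib.Algebra.Module.LinearMap.Basic
import Mathlib.LinearAlgebra.Dimension.Finite

set_option autoImplicit false

/-!
Two commuting common partners of `d` and `c` have the same isotropic vector.
-/

namespace Cfsg.Agent.FischerO3

open Cfsg.Agent.Fischer
open Cfsg.Agent.Fischer.LocalSymThree (nb nb_symm)

variable {G : Type*} [Group G] {D : Set G}
variable {W : Type*} [AddCommGroup W] [Module (ZMod 3) W]
variable {F : Form W} {d : G}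

theorem Motion.id_d (A : View D F d) : Motion A d id where
  fix := by rw [mul_inv_cancel_right]
  form _ _ := rfl
  lin _ _ _ := rfl
  act x hx := Or.inl (by rw [conj_eq_self_of_commute hx.2.2, id])

theorem IsW.dconj (hT : IsThreeTranspositionGroup D) {A : View D F d} {x c : G} {w : W} (hx : x ∈ nb D d)
    (h : IsW A c x w) : IsW A (d * c * d⁻¹) x w := by
  simpa [conj_eq_self_of_commute hx.2.2] using h.motion hT hx (Motion.id_d A)

/-- The combination of three vectors. -/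
def v3 (b₁ b₂ b₃ : W) (a b c : ZMod 3) : W := a • b₁ + b • b₂ + c • b₃

/-- Three copies of a vector sum to zero. -/
theorem three_smul' (z : W) : z + z + z = 0 := by
  have h : ((1 : ZMod 3) + 1 + 1) • z = z + z + z := by simp [add_smul]
  rw [← h, show (1 : ZMod 3) + 1 + 1 = 0 from by decide, zero_smul]

variable [FiniteDimensional (ZMod 3) W]

/-- A full orthogonal family has only zero orthogonal to it. -/
theorem Form.perp_full {k : ℕ} {s : Fin k → W} (h : F.Orth s) (hk : k = Module.finrank (ZMod 3) W)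
    {v : W} (hv : F.Perp s v) : v = 0 := by
  have hli : LinearIndependent (ZMod 3) s := by
    rw [Fintype.linearIndependent_iff]
    intro g hg i
    have h1 := congrArg (F.B (s i)) hg
    rw [map_sum, map_zero, Finset.sum_eq_single i, Form.B_smul_right] at h1
    · exact (mul_eq_zero.1 h1).resolve_right (h.ne i)
    · intro j _ hji
      rw [Form.B_smul_right, h.orth i j hji.symm, mul_zero]
    · simp
  have hsp := hli.span_eq_top_of_card_eq_finrank' (by rw [Fintype.card_fin, hk])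
  refine F.nd v fun y => ?_
  have hy : y ∈ Submodule.span (ZMod 3) (Set.range s) := by rw [hsp]; exact Submodule.mem_top
  induction hy using Submodule.span_induction with
  | mem z hz => obtain ⟨i, rfl⟩ := hz; rw [F.symm]; exact hv i
  | zero => exact map_zero _
  | add a b _ _ ha hb => rw [Form.B_add_right, ha, hb, add_zero]
  | smul a z _ hz => rw [Form.B_smul_right, hz, mul_zero]

theorem agree_of_pt (hC : Cx D F) (hd : d ∈ D) (A : View D F d) {x y c : G} (hx : x ∈ nb D d)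
    (hy : y ∈ nb D d) (hxy : y ∈ nb D x) (hcx : Commute c x) (hcy : Commute c y) {w w' : W}
    (h : IsW A c x w) (h' : IsW A c y w') {z₀ : W} (hz₀ : F.IsPt z₀) (hzx : F.B (A.toV x) z₀ = 0)
    (hzy : F.B (A.toV y) z₀ = 0) (hzw : F.B w z₀ = 0) : PM w w' := by
  have hyx := nb_symm hx.1 hxy
  have hB : F.B (A.toV x) (A.toV y) = 0 := (A.B_zero_iff hx hy).2 ⟨hxy.2.1.symm, hxy.2.2⟩
  have hwy : F.B (A.toV y) w = 0 := by rw [F.symm]; exact (h.2.2 y hy hxy).1 hcy
  have hwx : F.B (A.toV x) w' = 0 := by rw [F.symm]; exact (h'.2.2 x hx hyx).1 hcx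
  have hO := (Form.orth_single (A.pt y hy)).cons (z := A.toV x) (by rw [(A.pt x hx).self]; decide)
    (Form.perp_single.2 (by rw [F.symm]; exact hB))
  have hperp : ∀ v, F.B (A.toV x) v = 0 → F.B (A.toV y) v = 0 →
      F.Perp (Fin.cons (A.toV x) (Fin.cons (A.toV y) Fin.elim0) : Fin 2 → W) v :=
    fun v h1 h2 => Form.perp_cons.2 ⟨h1, Form.perp_single.2 h2⟩
  obtain ⟨t, ht⟩ := Form.iso_unique hO h.1 h'.1.2 (hperp _ h.2.1 hwy) (hperp _ hwx h'.2.1) hz₀
    (hperp _ hzx hzy) hzw (fun v hv hvp hvw => by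
      obtain ⟨hvx, hvy⟩ := Form.perp_cons.1 hvp
      rw [Form.perp_single] at hvy
      obtain ⟨u, hu, eu⟩ := A.surj v hv
      have hux := (A.B_zero_iff hx hu).1 ((Form.pm_B_zero' eu).2 hvx)
      have huy := (A.B_zero_iff hy hu).1 ((Form.pm_B_zero' eu).2 hvy)
      rw [← Form.pm_B_zero' eu]
      exact (h'.2.2 u hu ⟨hu.1, huy.1.symm, huy.2⟩).1
        ((h.2.2 u hu ⟨hu.1, hux.1.symm, hux.2⟩).2 ((Form.pm_B_zero' eu).2 hvw)))
  refine (PM.of_smul (fun e => h'.1.1 ?_) ht).symm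
  rw [ht, e, zero_smul]

/-- The case of five dimensions in which no point is orthogonal to `x`, `y` and the vector. -/
theorem agree_of_frame (hC : Cx D F) (hd : d ∈ D) (A : View D F d) {x y c : G} (hx : x ∈ nb D d)
    (hy : y ∈ nb D d) (hxy : y ∈ nb D x) (hc : c ∈ D) (hnc : ¬ Commute d c) (hcx : Commute c x)
    (hcy : Commute c y) {w w' : W} (h : IsW A c x w) (h' : IsW A c y w')
    (h5 : Module.finrank (ZMod 3) W = 5) {b₁ b₂ b₃ : W}
    (hO : F.Orth (Fin.cons b₁ (Fin.cons b₂ (Fin.cons b₃ (Fin.cons (A.toV x) (Fin.cons (A.toV y) Fin.elim0)))) :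
      Fin 5 → W))
    (p1 : F.IsPt b₁) (p2 : F.IsPt b₂) (p3 : F.IsPt b₃) : PM w w' := by
  have hyx := nb_symm hx.1 hxy
  have hB : F.B (A.toV x) (A.toV y) = 0 := (A.B_zero_iff hx hy).2 ⟨hxy.2.1.symm, hxy.2.2⟩
  have o12 : F.B b₁ b₂ = 0 := hO.orth 0 1 (by decide)
  have o13 : F.B b₁ b₃ = 0 := hO.orth 0 2 (by decide)
  have o1x : F.B b₁ (A.toV x) = 0 := hO.orth 0 3 (by decide)
  have o1y : F.B b₁ (A.toV y) = 0 := hO.orth 0 4 (by decide)
  have o23 : F.B b₂ b₃ = 0 := hO.orth 1 2 (by decide)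
  have o2x : F.B b₂ (A.toV x) = 0 := hO.orth 1 3 (by decide)
  have o2y : F.B b₂ (A.toV y) = 0 := hO.orth 1 4 (by decide)
  have o3x : F.B b₃ (A.toV x) = 0 := hO.orth 2 3 (by decide)
  have o3y : F.B b₃ (A.toV y) = 0 := hO.orth 2 4 (by decide)
  set V := v3 b₁ b₂ b₃ with hV
  have e1 : ∀ a b e, F.B b₁ (V a b e) = -a := fun a b e => by
    simp only [hV, v3, Form.B_add_right, Form.B_smul_right, p1.self, o12, o13]; ring
  have e2 : ∀ a b e, F.B b₂ (V a b e) = -b := fun a b e => by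
    simp only [hV, v3, Form.B_add_right, Form.B_smul_right, p2.self, F.symm b₂ b₁, o12, o23]; ring
  have e3 : ∀ a b e, F.B b₃ (V a b e) = -e := fun a b e => by
    simp only [hV, v3, Form.B_add_right, Form.B_smul_right, p3.self, F.symm b₃ b₁, F.symm b₃ b₂, o13, o23]
    ring
  have ex : ∀ a b e, F.B (A.toV x) (V a b e) = 0 := fun a b e => by
    simp only [hV, v3, Form.B_add_left, Form.B_smul_left, F.symm (A.toV x), o1x, o2x, o3x]; ring
  have ey : ∀ a b e, F.B (A.toV y) (V a b e) = 0 := fun a b e => by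
    simp only [hV, v3, Form.B_add_left, Form.B_smul_left, F.symm (A.toV y), o1y, o2y, o3y]; ring
  have esq : ∀ a b e, F.B (V a b e) (V a b e) = -(a * a + b * b + e * e) := fun a b e => by
    rw [show V a b e = a • b₁ + b • b₂ + e • b₃ from rfl, Form.self_add, Form.self_add]
    simp only [Form.self_smul, Form.B_add_left, Form.B_smul_left, Form.B_smul_right, p1.self, p2.self, p3.self,
      o12, o13, o23]
    ring
  have expand : ∀ v, F.B (A.toV x) v = 0 → F.B (A.toV y) v = 0 →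
      ∃ a b e, v = V a b e := by
    intro v vx vy
    refine ⟨-F.B b₁ v, -F.B b₂ v, -F.B b₃ v, sub_eq_zero.1 (Form.perp_full hO h5.symm ?_)⟩
    refine Form.perp_cons.2 ⟨?_, Form.perp_cons.2 ⟨?_, Form.perp_cons.2 ⟨?_, Form.perp_cons.2 ⟨?_,
      Form.perp_single.2 ?_⟩⟩⟩⟩ <;> rw [Form.B_sub_right]
    · rw [e1, neg_neg, sub_self]
    · rw [e2, neg_neg, sub_self]
    · rw [e3, neg_neg, sub_self]
    · rw [ex, vx, sub_self]
    · rw [ey, vy, sub_self]
  let R : ZMod 3 → ZMod 3 → ZMod 3 → ZMod 3 → ZMod 3 → ZMod 3 → Prop := fun a b e a' b' e' =>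
    ∃ c ∈ D, ¬ Commute d c ∧ Commute c x ∧ IsW A c x (V a b e) ∧ IsW A c y (V a' b' e')
  have uniq : ∀ {a b e a' b' e' a'' b'' e''}, R a b e a' b' e' → R a b e a'' b'' e'' →
      (a' = a'' ∧ b' = b'' ∧ e' = e'') ∨ (a' = -a'' ∧ b' = -b'' ∧ e' = -e'') := by
    rintro a b e a' b' e' a'' b'' e'' ⟨c₁, hc₁, hn₁, hx₁, hw₁, hy₁⟩ ⟨c₂, hc₂, hn₂, hx₂, hw₂, hy₂⟩
    have hp : PM (V a' b' e') (V a'' b'' e'') := by
      rcases IsW.pair hC hd hx hc₁ hn₁ hx₁ hc₂ hn₂ hx₂ hw₁ hw₂ with rfl | rfl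
      · exact IsW.unique hC hy hy₁ hy₂
      · exact IsW.unique hC hy (hy₁.dconj hC.grp hy) hy₂
    rcases hp with hp | hp
    · have q1 := congrArg (F.B b₁) hp
      have q2 := congrArg (F.B b₂) hp
      have q3 := congrArg (F.B b₃) hp
      rw [e1, e1, neg_inj] at q1
      rw [e2, e2, neg_inj] at q2
      rw [e3, e3, neg_inj] at q3
      exact Or.inl ⟨q1, q2, q3⟩
    · have q1 := congrArg (F.B b₁) hp
      have q2 := congrArg (F.B b₂) hp
      have q3 := congrArg (F.B b₃) hp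
      rw [map_neg, e1, e1, neg_inj] at q1
      rw [map_neg, e2, e2, neg_inj] at q2
      rw [map_neg, e3, e3, neg_inj] at q3
      exact Or.inr ⟨q1, q2, q3⟩
  have flip : ∀ {b : W}, F.IsPt b → F.B b (A.toV x) = 0 → F.B b (A.toV y) = 0 →
      ∀ {a₁ a₂ a₃ a₁' a₂' a₃' n₁ n₂ n₃ n₁' n₂' n₃' : ZMod 3}, R a₁ a₂ a₃ a₁' a₂' a₃' →
        F.refl b (V a₁ a₂ a₃) = V n₁ n₂ n₃ → F.refl b (V a₁' a₂' a₃') = V n₁' n₂' n₃' →
        R n₁ n₂ n₃ n₁' n₂' n₃' := by
    intro b hb hbx hby a₁ a₂ a₃ a₁' a₂' a₃' n₁ n₂ n₃ n₁' n₂' n₃' hR hn hn'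
    obtain ⟨c₁, hc₁, hn₁, hx₁, hw₁, hy₁⟩ := hR
    obtain ⟨m, hm, em⟩ := A.surj b hb
    have hmx : m * x * m⁻¹ = x := conj_eq_self_of_commute
      ((A.B_zero_iff hm hx).1 ((Form.pm_B_zero em).2 hbx)).2
    have hmy : m * y * m⁻¹ = y := conj_eq_self_of_commute
      ((A.B_zero_iff hm hy).1 ((Form.pm_B_zero em).2 hby)).2
    have M := Motion.of_nb (A := A) hm
    refine ⟨m * c₁ * m⁻¹, hC.grp.2.1 m c₁ hc₁, fun hh => hn₁ ?_, ?_, ?_, ?_⟩
    · rw [← M.fix, commute_conj_iff] at hh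
      exact hh
    · have := (commute_conj_iff m c₁ x).2 hx₁
      rwa [hmx] at this
    · have := hw₁.motion hC.grp hx M
      rwa [hmx, Form.pm_refl em, hn] at this
    · have := hy₁.motion hC.grp hy M
      rwa [hmy, Form.pm_refl em, hn'] at this
  have r1 : ∀ a b e, F.refl b₁ (V a b e) = V (-a) b e := fun a b e => by
    rw [Form.refl, e1, hV, v3, v3, neg_smul, sub_neg_eq_add, ← eq_neg_of_add_eq_zero_left (three_smul' (a • b₁))]
    abel
  have r2 : ∀ a b e, F.refl b₂ (V a b e) = V a (-b) e := fun a b e => by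
    rw [Form.refl, e2, hV, v3, v3, neg_smul, sub_neg_eq_add, ← eq_neg_of_add_eq_zero_left (three_smul' (b • b₂))]
    abel
  have r3 : ∀ a b e, F.refl b₃ (V a b e) = V a b (-e) := fun a b e => by
    rw [Form.refl, e3, hV, v3, v3, neg_smul, sub_neg_eq_add, ← eq_neg_of_add_eq_zero_left (three_smul' (e • b₃))]
    abel
  have scale : ∀ {a b e a' b' e'} (l m n : ZMod 3), l ≠ 0 → m ≠ 0 → n ≠ 0 → R a b e a' b' e' →
      R (l * a) (m * b) (n * e) (l * a') (m * b') (n * e') := by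
    intro a b e a' b' e' l m n hl hm hn hR
    have s1 : R (l * a) b e (l * a') b' e' := by
      rcases one_or_neg3 hl with rfl | rfl
      · simpa using hR
      · simpa using flip p1 o1x o1y hR (r1 _ _ _) (r1 _ _ _)
    have s2 : R (l * a) (m * b) e (l * a') (m * b') e' := by
      rcases one_or_neg3 hm with rfl | rfl
      · simpa using s1
      · simpa using flip p2 o2x o2y s1 (r2 _ _ _) (r2 _ _ _)
    rcases one_or_neg3 hn with rfl | rfl
    · simpa using s2
    · simpa using flip p3 o3x o3y s2 (r3 _ _ _) (r3 _ _ _)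
  have swap : ∀ {p q r : W}, F.IsPt p → F.IsPt q → F.B p q = 0 → F.B p (A.toV x) = 0 →
      F.B p (A.toV y) = 0 → F.B q (A.toV x) = 0 → F.B q (A.toV y) = 0 → F.B p r = 0 → F.B q r = 0 →
      F.B r (A.toV x) = 0 → F.B r (A.toV y) = 0 →
      ∀ {a₁ a₂ a₃ a₁' a₂' a₃' n₁ n₂ n₃ n₁' n₂' n₃' s t u s' t' u' : ZMod 3},
        R a₁ a₂ a₃ a₁' a₂' a₃' → V a₁ a₂ a₃ = s • p + t • q + u • r →
        V a₁' a₂' a₃' = s' • p + t' • q + u' • r → V n₁ n₂ n₃ = t' • p + s' • q + u' • r →
        V n₁' n₂' n₃' = t • p + s • q + u • r → R n₁ n₂ n₃ n₁' n₂' n₃' := by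
    intro p q r hp hq hpq hpx hpy hqx hqy hpr hqr hrx hry a₁ a₂ a₃ a₁' a₂' a₃' n₁ n₂ n₃ n₁' n₂' n₃'
      s t u s' t' u' hR hs hs' hn hn'
    obtain ⟨c₁, hc₁, hn₁, hx₁, hw₁, hy₁⟩ := hR
    set X := A.toV x
    set Y := A.toV y
    have hXX : F.B X X = -1 := A.pt x hx
    have hYY : F.B Y Y = -1 := A.pt y hy
    set P := X - Y + (p - q) with hP
    set M := X - Y - (p - q) with hM
    have hPP : F.IsPt P := by
      simp only [hP, Form.IsPt, Form.B_add_left, Form.B_add_right, Form.B_sub_left, Form.B_sub_right, hXX, hYY,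
        hp.self, hq.self, F.symm X p, F.symm X q, F.symm Y p, F.symm Y q, F.symm Y X, F.symm q p, hB, hpq,
        hpx, hpy, hqx, hqy]
      decide
    have hMM : F.IsPt M := by
      simp only [hM, Form.IsPt, Form.B_sub_left, Form.B_sub_right, hXX, hYY,
        hp.self, hq.self, F.symm X p, F.symm X q, F.symm Y p, F.symm Y q, F.symm Y X, F.symm q p, hB, hpq,
        hpx, hpy, hqx, hqy]
      decide
    obtain ⟨k, hk, ek⟩ := A.surj P hPP
    obtain ⟨l, hl, el⟩ := A.surj M hMM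
    have hMo := (Motion.of_nb (A := A) hk).mul hC.grp (Motion.of_nb (A := A) hl)
    have hρ : ∀ v, (F.refl (A.toV k) ∘ F.refl (A.toV l)) v = F.refl P (F.refl M v) := fun v => by
      rw [Function.comp_apply, Form.pm_refl ek, Form.pm_refl el]
    have two : ∀ z : W, z + z = -z := fun z => by
      rw [← two_smul (ZMod 3), show (2 : ZMod 3) = -1 from by decide, neg_smul, one_smul]
    have hgx : F.refl P (F.refl M X) = Y := by
      have h1 : F.B M X = -1 := by
        simp only [hM, Form.B_sub_left, hXX, F.symm Y X, hB, hpx, hqx]; decide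
      have h2 : F.B P (X + M) = -1 := by
        simp only [hP, hM, Form.B_add_left, Form.B_add_right, Form.B_sub_left, Form.B_sub_right, hXX, hYY,
          hp.self, hq.self, F.symm X p, F.symm X q, F.symm Y p, F.symm Y q, F.symm Y X, F.symm q p, hB, hpq,
          hpx, hpy, hqx, hqy]
        decide
      rw [Form.refl, Form.refl, h1, neg_smul, one_smul, sub_neg_eq_add, h2, neg_smul, one_smul,
        sub_neg_eq_add]
      rw [hP, hM, show X + (X - Y - (p - q)) + (X - Y + (p - q)) = (X + X) + X + -(Y + Y) by abel, two, two,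
        neg_neg, neg_add_cancel, zero_add]
    have hgy : F.refl P (F.refl M Y) = X := by
      calc F.refl P (F.refl M Y) = F.refl P (F.refl M (F.refl P (F.refl M X))) := by rw [hgx]
        _ = X := by
          have hPM : F.B P M = 0 := by
            simp only [hP, hM, Form.B_add_left, Form.B_sub_left, Form.B_sub_right, hXX, hYY,
              hp.self, hq.self, F.symm X p, F.symm X q, F.symm Y p, F.symm Y q, F.symm Y X, F.symm q p, hB,
              hpq, hpx, hpy, hqx, hqy]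
            decide
          have hcomm : ∀ v, F.refl P (F.refl M v) = F.refl M (F.refl P v) := fun v => by
            simp only [Form.refl, Form.B_sub_right, Form.B_smul_right, hPM, F.symm M P, mul_zero, sub_zero]
            abel
          rw [← hcomm, Form.refl_refl hMM, Form.refl_refl hPP]
    have hact : ∀ a b e : ZMod 3, F.refl P (F.refl M (a • p + b • q + e • r)) = b • p + a • q + e • r := by
      intro a b e
      have h1 : F.B M (a • p + b • q + e • r) = a - b := by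
        simp only [hM, Form.B_sub_left, Form.B_add_right, Form.B_smul_right, hp.self, hq.self, F.symm X p,
          F.symm X q, F.symm Y p, F.symm Y q, F.symm q p, F.symm X r, F.symm Y r, hpq, hpx, hpy, hqx, hqy,
          hpr, hqr, hrx, hry]
        ring
      have h2 : F.B P (a • p + b • q + e • r - (a - b) • M) = b - a := by
        simp only [hP, hM, Form.B_add_left, Form.B_add_right, Form.B_sub_left, Form.B_sub_right,
          Form.B_smul_right, hp.self, hq.self, hXX, hYY, F.symm X p,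
          F.symm X q, F.symm Y p, F.symm Y q, F.symm Y X, F.symm q p, F.symm X r, F.symm Y r, hB, hpq, hpx, hpy,
          hqx, hqy, hpr, hqr, hrx, hry]
        ring
      rw [Form.refl, Form.refl, h1, h2, hP, hM]
      have ha : a • p = b • p + (a - b) • p := by rw [sub_smul]; abel
      have hb : b • q = a • q - (a - b) • q := by rw [sub_smul]; abel
      rw [ha, hb, show b - a = -(a - b) by ring, neg_smul, sub_neg_eq_add]
      set m := a - b
      calc b • p + m • p + (a • q - m • q) + e • r - m • (X - Y - (p - q)) + m • (X - Y + (p - q))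
          = b • p + a • q + e • r + (m • p + m • p + m • p - (m • q + m • q + m • q)) := by
            simp only [smul_add, smul_sub]; abel
        _ = b • p + a • q + e • r := by
            rw [two, neg_add_cancel, two, neg_add_cancel, sub_zero, add_zero]
    have cx : k * l * x * (k * l)⁻¹ = y := A.inj _ (nb_conj_fix hC.grp hMo.fix hx) y hy
      ((hMo.act x hx).trans (Or.inl ((hρ _).trans hgx)))
    have cy : k * l * y * (k * l)⁻¹ = x := A.inj _ (nb_conj_fix hC.grp hMo.fix hy) x hx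
      ((hMo.act y hy).trans (Or.inl ((hρ _).trans hgy)))
    have hcy₁ : Commute c₁ y := (hw₁.2.2 y hy hxy).2 (by rw [F.symm]; exact ey a₁ a₂ a₃)
    refine ⟨k * l * c₁ * (k * l)⁻¹, hC.grp.2.1 _ c₁ hc₁, fun hh => hn₁ ?_, ?_, ?_, ?_⟩
    · rw [← hMo.fix, commute_conj_iff] at hh
      exact hh
    · have := (commute_conj_iff (k * l) c₁ y).2 hcy₁
      rwa [cy] at this
    · have := hy₁.motion hC.grp hy hMo
      rwa [cy, hρ, hs', hact, ← hn] at this
    · have := hw₁.motion hC.grp hx hMo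
      rwa [cx, hρ, hs, hact, ← hn'] at this
  have hwy : F.B (A.toV y) w = 0 := by rw [F.symm]; exact (h.2.2 y hy hxy).1 hcy
  have hwx : F.B (A.toV x) w' = 0 := by rw [F.symm]; exact (h'.2.2 x hx hyx).1 hcx
  obtain ⟨a, b, e, rfl⟩ := expand w h.2.1 hwy
  obtain ⟨a', b', e', rfl⟩ := expand w' hwx h'.2.1
  have nz : ∀ a b e : ZMod 3, F.IsIso (V a b e) → a ≠ 0 ∧ b ≠ 0 ∧ e ≠ 0 := by
    intro a b e hi
    refine (by decide : ∀ a b e : ZMod 3, -(a * a + b * b + e * e) = 0 → ¬ (a = 0 ∧ b = 0 ∧ e = 0) →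
      a ≠ 0 ∧ b ≠ 0 ∧ e ≠ 0) a b e (esq a b e ▸ hi.2) ?_
    rintro ⟨rfl, rfl, rfl⟩
    exact hi.1 (by simp [hV, v3])
  obtain ⟨na, nb', ne⟩ := nz a b e h.1
  obtain ⟨na', nb'', ne'⟩ := nz a' b' e' h'.1
  have hR : R a b e a' b' e' := ⟨c, hc, hnc, hcx, h, h'⟩
  have hs12 : R b' a' e' b a e := swap p1 p2 o12 o1x o1y o2x o2y o13 o23 o3x o3y hR rfl rfl rfl rfl
  have hl12 := scale (b' * a) (a' * b) (e' * e) (mul_ne_zero nb'' na) (mul_ne_zero na' nb')
    (mul_ne_zero ne' ne) hR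
  have hs23 : R a' e' b' a e b := swap p2 p3 o23 o2x o2y o3x o3y (by rw [F.symm]; exact o12)
    (by rw [F.symm]; exact o13) o1x o1y hR (show V a b e = b • b₂ + e • b₃ + a • b₁ by rw [hV, v3]; abel)
    (show V a' b' e' = b' • b₂ + e' • b₃ + a' • b₁ by rw [hV, v3]; abel)
    (show V a' e' b' = e' • b₂ + b' • b₃ + a' • b₁ by rw [hV, v3]; abel)
    (show V a e b = e • b₂ + b • b₃ + a • b₁ by rw [hV, v3]; abel)
  have hl23 := scale (a' * a) (e' * b) (b' * e) (mul_ne_zero na' na) (mul_ne_zero ne' nb')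
    (mul_ne_zero nb'' ne) hR
  rw [mul_assoc, sq_one3 na, mul_one, mul_assoc, sq_one3 nb', mul_one, mul_assoc, sq_one3 ne, mul_one]
    at hl12 hl23
  have k1 := uniq hs12 hl12
  have k2 := uniq hs23 hl23
  have key := (by decide : ∀ a b e a' b' e' : ZMod 3, a ≠ 0 → b ≠ 0 → e ≠ 0 → a' ≠ 0 → b' ≠ 0 → e' ≠ 0 →
    ((b = b' * a * a' ∧ a = a' * b * b' ∧ e = e' * e * e') ∨
      (b = -(b' * a * a') ∧ a = -(a' * b * b') ∧ e = -(e' * e * e'))) →
    ((a = a' * a * a' ∧ e = e' * b * b' ∧ b = b' * e * e') ∨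
      (a = -(a' * a * a') ∧ e = -(e' * b * b') ∧ b = -(b' * e * e'))) →
    (a' = a ∧ b' = b ∧ e' = e) ∨ (a' = -a ∧ b' = -b ∧ e' = -e))
    a b e a' b' e' na nb' ne na' nb'' ne' k1 k2
  rcases key with ⟨rfl, rfl, rfl⟩ | ⟨rfl, rfl, rfl⟩
  · exact PM.rfl
  · refine (PM.symm (Or.inr ?_))
    simp [hV, v3]
    abel

/-- Two commuting common partners have the same vector. -/
theorem agree (hC : Cx D F) (hd : d ∈ D) (A : View D F d) {x y c : G} (hx : x ∈ nb D d)
    (hy : y ∈ nb D d) (hxy : y ∈ nb D x) (hc : c ∈ D) (hnc : ¬ Commute d c) (hcx : Commute c x)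
    (hcy : Commute c y) {w w' : W} (h : IsW A c x w) (h' : IsW A c y w') : PM w w' := by
  have hB : F.B (A.toV x) (A.toV y) = 0 := (A.B_zero_iff hx hy).2 ⟨hxy.2.1.symm, hxy.2.2⟩
  have hwy : F.B (A.toV y) w = 0 := by rw [F.symm]; exact (h.2.2 y hy hxy).1 hcy
  have hO := (Form.orth_single (A.pt y hy)).cons (z := A.toV x) (by rw [(A.pt x hx).self]; decide)
    (Form.perp_single.2 (by rw [F.symm]; exact hB))
  have hperp := Form.perp_cons.2 ⟨h.2.1, Form.perp_single.2 hwy⟩
  obtain ⟨f, hfp, hf, hwf⟩ := Form.exists_partner hO h.1 hperp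
  obtain ⟨hfx, hfy⟩ := Form.perp_cons.1 hfp
  rw [Form.perp_single] at hfy
  have hO4 := hO.hyp h.1 hf hperp hfp hwf
  by_cases h5 : Module.finrank (ZMod 3) W = 5
  swap
  · obtain ⟨z, hz, hzp⟩ := Form.exists_pt hO4 (by have := hC.dim; omega)
    obtain ⟨hwz, -, hz'⟩ := Form.perp_hyp.1 hz
    obtain ⟨hzx, hzy⟩ := Form.perp_cons.1 hz'
    rw [Form.perp_single] at hzy
    exact agree_of_pt hC hd A hx hy hxy hcx hcy h h' hzp hzx hzy hwz
  obtain ⟨g, hg, hgg⟩ := Form.exists_aniso hO4 (by omega)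
  obtain ⟨hwg, hfg, hg'⟩ := Form.perp_hyp.1 hg
  obtain ⟨hgx, hgy⟩ := Form.perp_cons.1 hg'
  rw [Form.perp_single] at hgy
  rcases one_or_neg3 hgg with hgg | hgg
  swap
  · exact agree_of_pt hC hd A hx hy hxy hcx hcy h h' hgg hgx hgy hwg
  set X := A.toV x
  set Y := A.toV y
  have p1 : F.IsPt (w + f) := by rw [Form.IsPt, Form.self_add, h.1.2, hf.2, hwf]; decide
  have p2 : F.IsPt (w - f + g) := by
    simp only [Form.IsPt, Form.B_add_left, Form.B_add_right, Form.B_sub_left, Form.B_sub_right, h.1.2, hf.2,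
      hwf, F.symm f w, F.symm g w, F.symm g f, hwg, hfg, hgg]
    decide
  have p3 : F.IsPt (w - f - g) := by
    simp only [Form.IsPt, Form.B_sub_left, Form.B_sub_right, h.1.2, hf.2,
      hwf, F.symm f w, F.symm g w, F.symm g f, hwg, hfg, hgg]
    decide
  refine agree_of_frame hC hd A hx hy hxy hc hnc hcx hcy h h' h5 (b₁ := w + f) (b₂ := w - f + g)
    (b₃ := w - f - g) ?_ p1 p2 p3
  refine ((hO.cons (z := w - f - g) (by rw [p3.self]; decide) ?_).cons (z := w - f + g) (by rw [p2.self]; decide) ?_).cons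
    (z := w + f) (by rw [p1.self]; decide) ?_
  · exact Form.perp_cons.2 ⟨by rw [Form.B_sub_right, Form.B_sub_right, h.2.1, hfx, hgx]; ring,
      Form.perp_single.2 (by rw [Form.B_sub_right, Form.B_sub_right, hwy, hfy, hgy]; ring)⟩
  · refine Form.perp_cons.2 ⟨?_, Form.perp_cons.2 ⟨by rw [Form.B_add_right, Form.B_sub_right, h.2.1, hfx, hgx]; ring,
      Form.perp_single.2 (by rw [Form.B_add_right, Form.B_sub_right, hwy, hfy, hgy]; ring)⟩⟩
    simp only [Form.B_add_right, Form.B_sub_left, Form.B_sub_right, h.1.2, hf.2, hwf, F.symm f w, F.symm g w,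
      F.symm g f, hwg, hfg, hgg]
    decide
  · refine Form.perp_cons.2 ⟨?_, Form.perp_cons.2 ⟨?_, Form.perp_cons.2 ⟨by
        rw [Form.B_add_right, h.2.1, hfx, add_zero],
      Form.perp_single.2 (by rw [Form.B_add_right, hwy, hfy, add_zero])⟩⟩⟩
    · simp only [Form.B_add_left, Form.B_add_right, Form.B_sub_left, h.1.2, hf.2, hwf, F.symm f w, F.symm g w,
        F.symm g f, hwg, hfg]
      decide
    · simp only [Form.B_add_right, Form.B_sub_left, h.1.2, hf.2, hwf, F.symm f w, F.symm g w,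
        F.symm g f, hwg, hfg]
      decide

end Cfsg.Agent.FischerO3
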