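import Cfsg.Agent.Lib.FischerO3.View

set_option autoImplicit false

/-!
The common partners of three members `d`, `c`, `x` with `c` not commuting with `d`, and `x` commuting with both:
in the labelling at `d` they are the points orthogonal to one isotropic vector.
-/

namespace Cfsg.Agent.FischerO3

open Cfsg.Agent.Fischer
open Cfsg.Agent.Fischer.LocalSymThree (nb nb_symm)

variable {G : Type*} [Group G] {D : Set G}
variable {W : Type*} [AddCommGroup W] [Module (ZMod 3) W]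

theorem Form.lineVec_pm {F : Form W} {a b a' b' : W} (ha : PM a a') (hb : PM b b') :
    PM (F.lineVec a b) (F.lineVec a' b') := by
  rcases ha with rfl | rfl <;> rcases hb with rfl | rfl
  · exact PM.rfl
  · exact Or.inr (by simp [Form.lineVec, add_comm])
  · exact Or.inl (by simp [Form.lineVec])
  · exact Or.inr (by simp [Form.lineVec, add_comm])

theorem Form.orth_single {F : Form W} {p : W} (hp : F.IsPt p) :
    F.Orth (Fin.cons p Fin.elim0 : Fin 1 → W) :=
  (Form.Orth.elim0 (F := F)).cons (by rw [hp.self]; decide) (Form.perp_elim0 p)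

theorem Form.perp_single {F : Form W} {p v : W} :
    F.Perp (Fin.cons p Fin.elim0 : Fin 1 → W) v ↔ F.B p v = 0 := by
  rw [Form.perp_cons]
  exact ⟨fun h => h.1, fun h => ⟨h, Form.perp_elim0 v⟩⟩

/-- The standing hypotheses. -/
structure Cx (D : Set G) (F : Form W) : Prop where
  grp : IsThreeTranspositionGroup D
  view : ∀ d ∈ D, Nonempty (View D F d)
  dim : 5 ≤ Module.finrank (ZMod 3) W
  common : ∀ d ∈ D, ∀ c ∈ D, ¬ Commute d c → ∃ x ∈ nb D d, Commute c x

/-- `w` is the isotropic vector of the common partners of `d`, `c`, `x`. -/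
def IsW {F : Form W} {d : G} (A : View D F d) (c x : G) (w : W) : Prop :=
  F.IsIso w ∧ F.B (A.toV x) w = 0 ∧
    ∀ u ∈ nb D d, u ∈ nb D x → (Commute c u ↔ F.B w (A.toV u) = 0)

variable [FiniteDimensional (ZMod 3) W] {F : Form W} {d : G}

/-- A line of common partners of `d` and `x` over a given isotropic vector. -/
theorem View.exists_line (hC : Cx D F) (A : View D F d) {x : G} (hx : x ∈ nb D d) {w : W}
    (hw : F.IsIso w) (hwx : F.B (A.toV x) w = 0) :
    ∃ a b, a ∈ nb D d ∧ a ∈ nb D x ∧ b ∈ nb D d ∧ b ∈ nb D x ∧ ¬ Commute a b ∧ PM (A.lv a b) w ∧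
      F.B w (A.toV a) = 0 := by
  obtain ⟨z, hzp, hz, hwz⟩ := Form.exists_pt_iso (Form.orth_single (A.pt x hx)) hw
    (Form.perp_single.2 hwx) (by have := hC.dim; omega)
  rw [Form.perp_single] at hzp
  have hz' : F.IsPt (z + (1 : ZMod 3) • w) := hz.add_iso hw.2 hwz 1
  rw [one_smul] at hz'
  obtain ⟨a, ha, ea⟩ := A.surj z hz
  obtain ⟨b, hb, eb⟩ := A.surj _ hz'
  have hax := (A.B_zero_iff hx ha).1 ((Form.pm_B_zero' ea).2 hzp)
  have hbx := (A.B_zero_iff hx hb).1 ((Form.pm_B_zero' eb).2 (by rw [Form.B_add_right, hzp, hwx, add_zero]))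
  refine ⟨a, b, ha, ⟨ha.1, hax.1.symm, hax.2⟩, hb, ⟨hb.1, hbx.1.symm, hbx.2⟩, fun hc => ?_, ?_, ?_⟩
  · have hne : F.B (A.toV a) (A.toV b) ≠ 0 := by
      intro h0
      rw [Form.pm_B_zero ea, Form.pm_B_zero' eb, Form.B_add_right, hz.self, F.symm z w, hwz, add_zero] at h0
      exact absurd h0 (by decide)
    refine hne ((A.B_zero_iff ha hb).2 ⟨fun e => hw.1 ?_, hc⟩)
    subst e
    rcases ea.symm.trans eb with h | h
    · exact add_eq_left.1 h.symm
    · have hB := congrArg (F.B z) h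
      rw [map_neg, Form.B_add_right, hz.self, F.symm z w, hwz, add_zero, neg_neg] at hB
      exact absurd hB (by decide)
  · refine (Form.lineVec_pm ea eb).trans (Or.inl ?_)
    exact Form.add_iso_lineVec hz (by rw [F.symm, hwz])
  · rw [Form.pm_B_zero' ea, hwz]

omit [FiniteDimensional (ZMod 3) W] in
/-- Orthogonality in the labelling at `x`. -/
theorem View.commute_iff_lineVec (A' : View D F d) {x : G} {c u : G} (hxd : x ∈ nb D d) (hc : c ∈ nb D d)
    (hu : u ∈ nb D d) (hux : u ∈ nb D x) (hnc : ¬ Commute x c) :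
    Commute c u ↔ F.B (F.lineVec (A'.toV x) (A'.toV c)) (A'.toV u) = 0 := by
  have hne : c ≠ u := by rintro rfl; exact hnc hux.2.2
  rw [Form.lineVec, Form.B_add_left, Form.B_smul_left,
    (A'.B_zero_iff hxd hu).2 ⟨hux.2.1.symm, hux.2.2⟩, mul_zero, add_zero, A'.comm c hc u hu hne]

theorem mem_nb_of (hd : d ∈ D) {x c : G} (hx : x ∈ nb D d) (hc : c ∈ D) (hnc : ¬ Commute d c)
    (hcx : Commute c x) : d ∈ nb D x ∧ c ∈ nb D x :=
  ⟨nb_symm hd hx, hc, fun e => hnc (e ▸ hx.2.2), hcx.symm⟩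

theorem exists_isW (hC : Cx D F) (hd : d ∈ D) (A : View D F d) {x c : G} (hx : x ∈ nb D d)
    (hc : c ∈ D) (hnc : ¬ Commute d c) (hcx : Commute c x) : ∃ w, IsW A c x w := by
  obtain ⟨A'⟩ := hC.view x hx.1
  obtain ⟨hdx, hcx'⟩ := mem_nb_of hd hx hc hnc hcx
  have hiso := Form.lineVec_iso (A'.pt d hdx) (A'.pt c hcx') (A'.not_commute_B hdx hcx' hnc)
    (A'.not_pm hdx hcx' (Ne.symm (not_commute_ne hnc)))
  obtain ⟨a, b, ha, had, hb, hbd, hab, hlv, -⟩ := A'.exists_line hC hdx hiso (Form.lineVec_perp (A'.pt d hdx))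
  have hne : ¬ PM (A.toV b) (A.toV a) := A.not_pm had hbd (Ne.symm (not_commute_ne hab))
  refine ⟨A.lv a b, Form.lineVec_iso (A.pt a had) (A.pt b hbd) (A.not_commute_B had hbd hab) hne, ?_,
    fun u hud hux => ?_⟩
  · rw [View.lv, Form.lineVec, Form.B_add_right, Form.B_smul_right,
      (A.B_zero_iff hx had).2 ⟨ha.2.1.symm, ha.2.2⟩, (A.B_zero_iff hx hbd).2 ⟨hb.2.1.symm, hb.2.2⟩,
      mul_zero, add_zero]
  · rw [A.lv_transfer hC.grp A' had ha hbd hb hab hud hux, Form.pm_B_zero hlv]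
    exact A'.commute_iff_lineVec hdx hcx' hux hud hnc

theorem IsW.unique (hC : Cx D F) {A : View D F d} {x c : G} (hx : x ∈ nb D d) {w w' : W}
    (h : IsW A c x w) (h' : IsW A c x w') : PM w w' := by
  have hp := Form.orth_single (A.pt x hx)
  obtain ⟨z, hz, hz', hwz⟩ := Form.exists_pt_iso hp h.1 (Form.perp_single.2 h.2.1)
    (by have := hC.dim; omega)
  obtain ⟨t, ht⟩ := Form.iso_unique hp h.1 h'.1.2 (Form.perp_single.2 h.2.1)
    (Form.perp_single.2 h'.2.1) hz' hz hwz (fun v hv hvp hvw => by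
      rw [Form.perp_single] at hvp
      obtain ⟨u, hu, eu⟩ := A.surj v hv
      have hux := (A.B_zero_iff hx hu).1 ((Form.pm_B_zero' eu).2 hvp)
      have hu' : u ∈ nb D x := ⟨hu.1, hux.1.symm, hux.2⟩
      rw [← Form.pm_B_zero' eu]
      exact (h'.2.2 u hu hu').1 ((h.2.2 u hu hu').2 ((Form.pm_B_zero' eu).2 hvw)))
  refine (PM.of_smul (fun e => h'.1.1 ?_) ht).symm
  rw [ht, e, zero_smul]

/-- Two members with the same vector at `x` form one pair with `d`. -/
theorem IsW.pair (hC : Cx D F) (hd : d ∈ D) {A : View D F d} {x c e : G} (hx : x ∈ nb D d)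
    (hc : c ∈ D) (hnc : ¬ Commute d c) (hcx : Commute c x) (he : e ∈ D) (hne : ¬ Commute d e)
    (hex : Commute e x) {w : W} (h : IsW A c x w) (h' : IsW A e x w) :
    e = c ∨ e = d * c * d⁻¹ := by
  obtain ⟨A'⟩ := hC.view x hx.1
  obtain ⟨hdx, hcx'⟩ := mem_nb_of hd hx hc hnc hcx
  obtain ⟨-, hex'⟩ := mem_nb_of hd hx he hne hex
  have pd := A'.pt d hdx
  have isc := Form.lineVec_iso pd (A'.pt c hcx') (A'.not_commute_B hdx hcx' hnc)
    (A'.not_pm hdx hcx' (Ne.symm (not_commute_ne hnc)))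
  have ise := Form.lineVec_iso pd (A'.pt e hex') (A'.not_commute_B hdx hex' hne)
    (A'.not_pm hdx hex' (Ne.symm (not_commute_ne hne)))
  have hp := Form.orth_single pd
  obtain ⟨z, hz, hz', hwz⟩ := Form.exists_pt_iso hp isc (Form.perp_single.2 (Form.lineVec_perp pd))
    (by have := hC.dim; omega)
  obtain ⟨t, ht⟩ := Form.iso_unique hp isc ise.2 (Form.perp_single.2 (Form.lineVec_perp pd))
    (Form.perp_single.2 (Form.lineVec_perp pd)) hz' hz hwz (fun v hv hvp hvw => by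
      rw [Form.perp_single] at hvp
      obtain ⟨u, hu, eu⟩ := A'.surj v hv
      have hud := (A'.B_zero_iff hdx hu).1 ((Form.pm_B_zero' eu).2 hvp)
      have hu' : u ∈ nb D d := ⟨hu.1, hud.1.symm, hud.2⟩
      rw [← Form.pm_B_zero' eu, ← A'.commute_iff_lineVec hdx hex' hu hu' hne, h'.2.2 u hu' hu,
        ← h.2.2 u hu' hu, A'.commute_iff_lineVec hdx hcx' hu hu' hnc, Form.pm_B_zero' eu]
      exact hvw)
  have ht0 : t ≠ 0 := fun e0 => ise.1 (by rw [ht, e0, zero_smul])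
  have bc := A'.not_commute_B hdx hcx' hnc
  have be := A'.not_commute_B hdx hex' hne
  set p := A'.toV d
  set qc := A'.toV c
  set qe := A'.toV e
  have eqe : qe = t • F.lineVec p qc - F.B p qe • p := by
    rw [← ht, Form.lineVec, add_sub_cancel_right]
  rcases (by decide : ∀ a b t : ZMod 3, a ≠ 0 → b ≠ 0 → t ≠ 0 → a = t * b ∨ a = -(t * b))
    (F.B p qe) (F.B p qc) t be bc ht0 with hh | hh
  · left
    refine (A'.inj e hex' c hcx' (PM.of_smul ht0 ?_))
    show qe = t • qc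
    rw [eqe, hh, Form.lineVec, smul_add, smul_smul, add_sub_cancel_right]
  · right
    refine A'.inj e hex' _ (nb_closed hC.grp hcx' hdx) ((PM.of_smul ht0 ?_).trans (A'.conj c hcx' d hdx).symm)
    show qe = t • F.refl p qc
    rw [eqe, hh, Form.refl_line, smul_add, smul_smul, neg_smul, sub_neg_eq_add]

theorem exists_member (hC : Cx D F) (hd : d ∈ D) (A : View D F d) {x : G} (hx : x ∈ nb D d) {w : W}
    (hw : F.IsIso w) (hwx : F.B (A.toV x) w = 0) :
    ∃ c ∈ D, ¬ Commute d c ∧ Commute c x ∧ IsW A c x w := by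
  obtain ⟨a, b, had, ha, hbd, hb, hab, hlv, -⟩ := A.exists_line hC hx hw hwx
  obtain ⟨A'⟩ := hC.view x hx.1
  have hdx := nb_symm hd hx
  have hne : ¬ PM (A'.toV b) (A'.toV a) := A'.not_pm ha hb (Ne.symm (not_commute_ne hab))
  have iso' := Form.lineVec_iso (A'.pt a ha) (A'.pt b hb) (A'.not_commute_B ha hb hab) hne
  have hperp : F.B (A'.toV d) (A'.lv a b) = 0 := by
    rw [View.lv, Form.lineVec, Form.B_add_right, Form.B_smul_right,
      (A'.B_zero_iff hdx ha).2 ⟨had.2.1.symm, had.2.2⟩, (A'.B_zero_iff hdx hb).2 ⟨hbd.2.1.symm, hbd.2.2⟩,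
      mul_zero, add_zero]
  have hq : F.IsPt (A'.toV d + (1 : ZMod 3) • A'.lv a b) :=
    (A'.pt d hdx).add_iso iso'.2 (by rw [F.symm]; exact hperp) 1
  rw [one_smul] at hq
  obtain ⟨c, hc, ec⟩ := A'.surj _ hq
  have hB : F.B (A'.toV d) (A'.toV c) ≠ 0 := by
    intro h0
    rw [Form.pm_B_zero' ec, Form.B_add_right, (A'.pt d hdx).self, hperp] at h0
    exact absurd h0 (by decide)
  have hdc : d ≠ c := fun e => by
    subst e
    rcases ec with h | h
    · exact iso'.1 (add_eq_left.1 h.symm)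
    · have h2 := congrArg (F.B (A'.toV d)) h
      rw [map_neg, Form.B_add_right, (A'.pt d hdx).self, hperp] at h2
      exact absurd h2 (by decide)
  have hnc : ¬ Commute d c := fun h => hB ((A'.B_zero_iff hdx hc).2 ⟨hdc, h⟩)
  refine ⟨c, hc.1, hnc, hc.2.2.symm, hw, hwx, fun u hud hux => ?_⟩
  rw [← Form.pm_B_zero hlv, A.lv_transfer hC.grp A' had ha hbd hb hab hud hux,
    A'.commute_iff_lineVec hdx hc hux hud hnc]
  refine Form.pm_B_zero ((Form.lineVec_pm PM.rfl ec).trans (Or.inl ?_))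
  exact Form.add_iso_lineVec (A'.pt d hdx) hperp

omit [FiniteDimensional (ZMod 3) W] in
theorem IsW.motion (hT : IsThreeTranspositionGroup D) {A : View D F d} {x c g : G} {w : W} {ρ : W → W}
    (h : IsW A c x w) (hx : x ∈ nb D d) (M : Motion A g ρ) :
    IsW A (g * c * g⁻¹) (g * x * g⁻¹) (ρ w) := by
  refine ⟨⟨fun e => h.1.1 (F.nd w fun v => ?_), (M.form w w).trans h.1.2⟩, ?_, fun u hud hux => ?_⟩
  · rw [← M.form, e, map_zero, LinearMap.zero_apply]
  · rw [Form.pm_B_zero (M.act x hx), M.form, h.2.1]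
  · have hinv : g⁻¹ * d * g⁻¹⁻¹ = d := by
      calc g⁻¹ * d * g⁻¹⁻¹ = g⁻¹ * (g * d * g⁻¹) * g⁻¹⁻¹ := by rw [M.fix]
        _ = d := by group
    have h1 : g⁻¹ * u * g⁻¹⁻¹ ∈ nb D d := nb_conj_fix hT hinv hud
    have h2 : g⁻¹ * u * g⁻¹⁻¹ ∈ nb D x := by
      have := nb_conj_mem hT g⁻¹ hux
      rwa [show g⁻¹ * (g * x * g⁻¹) * g⁻¹⁻¹ = x by group] at this
    obtain ⟨v, hv, hv', rfl⟩ : ∃ v ∈ nb D d, v ∈ nb D x ∧ g * v * g⁻¹ = u := ⟨_, h1, h2, by group⟩
    rw [commute_conj_iff, h.2.2 v hv hv', Form.pm_B_zero' (M.act v hv), M.form]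

end Cfsg.Agent.FischerO3
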