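import Mathlib.LinearAlgebra.BilinearForm.Basic
import Mathlib.LinearAlgebra.Dimension.Finite
import Mathlib.LinearAlgebra.Dimension.Constructions
import Mathlib.LinearAlgebra.FiniteDimensional.Basic
import Mathlib.Data.ZMod.Basic
import Mathlib.Algebra.Field.ZMod
import Mathlib.Tactic.Abel
import Mathlib.Tactic.LinearCombination

set_option autoImplicit false

/-!
Symmetric non-degenerate forms over the field with three elements: points (vectors of value `-1`),
reflections, orthogonal families and isotropic partners.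
-/

namespace Cfsg.Agent.FischerO3

variable {W : Type*} [AddCommGroup W] [Module (ZMod 3) W]

/-- A symmetric non-degenerate form. -/
structure Form (W : Type*) [AddCommGroup W] [Module (ZMod 3) W] where
  B : LinearMap.BilinForm (ZMod 3) W
  symm : ∀ u v, B u v = B v u
  nd : ∀ u, (∀ v, B u v = 0) → u = 0

theorem inv_self3 (a : ZMod 3) : a⁻¹ = a := by
  by_cases h : a = 0
  · rw [h, inv_zero]
  · exact inv_eq_of_mul_eq_one_right ((by decide : ∀ a : ZMod 3, a ≠ 0 → a * a = 1) a h)

theorem sq_one3 {a : ZMod 3} (h : a ≠ 0) : a * a = 1 :=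
  (by decide : ∀ a : ZMod 3, a ≠ 0 → a * a = 1) a h

theorem one_or_neg3 {a : ZMod 3} (h : a ≠ 0) : a = 1 ∨ a = -1 :=
  (by decide : ∀ a : ZMod 3, a ≠ 0 → a = 1 ∨ a = -1) a h

namespace Form

variable (F : Form W)

/-- A point: a vector of value `-1`. -/
def IsPt (v : W) : Prop := F.B v v = -1

/-- A non-zero isotropic vector. -/
def IsIso (v : W) : Prop := v ≠ 0 ∧ F.B v v = 0

/-- The reflection in a point. -/
def refl (v x : W) : W := x - F.B v x • v

/-- An orthogonal family of anisotropic vectors. -/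
structure Orth {k : ℕ} (s : Fin k → W) : Prop where
  ne : ∀ i, F.B (s i) (s i) ≠ 0
  orth : ∀ i j, i ≠ j → F.B (s i) (s j) = 0

/-- Orthogonal to a family. -/
def Perp {k : ℕ} (s : Fin k → W) (v : W) : Prop := ∀ i, F.B (s i) v = 0

variable {F}

theorem IsPt.ne_zero {v : W} (h : F.IsPt v) : v ≠ 0 := by
  rintro rfl
  simp [IsPt] at h

theorem IsPt.neg {v : W} (h : F.IsPt v) : F.IsPt (-v) := by simpa [IsPt] using h

theorem IsPt.self {v : W} (h : F.IsPt v) : F.B v v = -1 := h

theorem B_add_left (u v x : W) : F.B (u + v) x = F.B u x + F.B v x := by simp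
theorem B_sub_left (u v x : W) : F.B (u - v) x = F.B u x - F.B v x := by simp
theorem B_smul_left (a : ZMod 3) (u x : W) : F.B (a • u) x = a * F.B u x := by simp
theorem B_add_right (x u v : W) : F.B x (u + v) = F.B x u + F.B x v := by simp
theorem B_sub_right (x u v : W) : F.B x (u - v) = F.B x u - F.B x v := by simp
theorem B_smul_right (a : ZMod 3) (x u : W) : F.B x (a • u) = a * F.B x u := by simp

theorem self_add (u v : W) : F.B (u + v) (u + v) = F.B u u + F.B v v + (F.B u v + F.B u v) := by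
  rw [B_add_left, B_add_right, B_add_right, F.symm v u]; ring

theorem self_smul (a : ZMod 3) (u : W) : F.B (a • u) (a • u) = a * a * F.B u u := by
  rw [B_smul_left, B_smul_right, mul_assoc]

theorem refl_self {v : W} (h : F.IsPt v) : F.refl v v = -v := by
  rw [Form.refl, h.self, neg_smul, one_smul, sub_neg_eq_add, ← two_smul (ZMod 3),
    show (2 : ZMod 3) = -1 from by decide, neg_smul, one_smul]

theorem refl_form {v : W} (h : F.IsPt v) (x y : W) : F.B (F.refl v x) (F.refl v y) = F.B x y := by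
  simp only [Form.refl, B_sub_left, B_sub_right, B_smul_left, B_smul_right, h.self, F.symm x v]
  generalize F.B v x = a
  generalize F.B v y = b
  generalize F.B x y = e
  revert a b e; decide

theorem refl_refl {v : W} (h : F.IsPt v) (x : W) : F.refl v (F.refl v x) = x := by
  simp only [Form.refl, B_sub_right, B_smul_right, h.self]
  rw [sub_smul, show F.B v x * -1 = -F.B v x by ring, neg_smul]
  have h3 : F.B v x + F.B v x + F.B v x = 0 := by
    generalize F.B v x = a; revert a; decide
  calc x - F.B v x • v - (F.B v x • v - -(F.B v x • v))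
      = x - (F.B v x + F.B v x + F.B v x) • v := by rw [add_smul, add_smul]; abel
    _ = x := by rw [h3, zero_smul, sub_zero]

theorem refl_smul (v : W) (a : ZMod 3) (x : W) : F.refl v (a • x) = a • F.refl v x := by
  simp only [Form.refl, B_smul_right, smul_sub, smul_smul]

theorem refl_add (v x y : W) : F.refl v (x + y) = F.refl v x + F.refl v y := by
  simp only [Form.refl, B_add_right, add_smul]; abel

theorem refl_fix {v x : W} (h : F.B v x = 0) : F.refl v x = x := by
  rw [Form.refl, h, zero_smul, sub_zero]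

theorem refl_neg_left (v x : W) : F.refl (-v) x = F.refl v x := by
  simp [Form.refl]

theorem Orth.elim0 : F.Orth (Fin.elim0 : Fin 0 → W) := ⟨fun i => i.elim0, fun i => i.elim0⟩

theorem Orth.cons {k : ℕ} {s : Fin k → W} (h : F.Orth s) {z : W} (hz : F.B z z ≠ 0)
    (hp : F.Perp s z) : F.Orth (Fin.cons z s : Fin (k + 1) → W) := by
  refine ⟨Fin.cases hz h.ne, ?_⟩
  intro i j hij
  induction i using Fin.cases with
  | zero =>
    induction j using Fin.cases with
    | zero => exact absurd rfl hij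
    | succ j => simpa [F.symm z] using hp j
  | succ i =>
    induction j using Fin.cases with
    | zero => simpa using hp i
    | succ j => simpa using h.orth i j fun e => hij (congrArg Fin.succ e)

theorem perp_cons {k : ℕ} {s : Fin k → W} {z v : W} :
    F.Perp (Fin.cons z s : Fin (k + 1) → W) v ↔ F.B z v = 0 ∧ F.Perp s v :=
  ⟨fun h => ⟨by simpa using h 0, fun i => by simpa using h i.succ⟩,
    fun h => Fin.cases (by simpa using h.1) fun i => by simpa using h.2 i⟩

theorem perp_elim0 (v : W) : F.Perp (Fin.elim0 : Fin 0 → W) v := fun i => i.elim0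

theorem Perp.add {k : ℕ} {s : Fin k → W} {u v : W} (hu : F.Perp s u) (hv : F.Perp s v) :
    F.Perp s (u + v) := fun i => by rw [B_add_right, hu i, hv i, add_zero]

theorem Perp.smul {k : ℕ} {s : Fin k → W} {u : W} (hu : F.Perp s u) (a : ZMod 3) :
    F.Perp s (a • u) := fun i => by rw [B_smul_right, hu i, mul_zero]

theorem Perp.sub {k : ℕ} {s : Fin k → W} {u v : W} (hu : F.Perp s u) (hv : F.Perp s v) :
    F.Perp s (u - v) := fun i => by rw [B_sub_right, hu i, hv i, sub_zero]

/-- The component orthogonal to a family. -/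
noncomputable def proj (F : Form W) {k : ℕ} (s : Fin k → W) (x : W) : W :=
  x - ∑ i, (F.B (s i) (s i) * F.B (s i) x) • s i

theorem proj_perp {k : ℕ} {s : Fin k → W} (h : F.Orth s) (x : W) : F.Perp s (F.proj s x) := by
  intro i
  rw [Form.proj, B_sub_right, map_sum, Finset.sum_eq_single i]
  · rw [B_smul_right, mul_comm (F.B (s i) (s i)), mul_assoc, sq_one3 (h.ne i), mul_one, sub_self]
  · intro j _ hji
    rw [B_smul_right, h.orth i j hji.symm, mul_zero]
  · simp

theorem B_proj {k : ℕ} {s : Fin k → W} {u : W} (hu : F.Perp s u) (x : W) :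
    F.B u (F.proj s x) = F.B u x := by
  rw [Form.proj, B_sub_right, map_sum, Finset.sum_eq_zero, sub_zero]
  intro i _
  rw [B_smul_right, F.symm u, hu i, mul_zero]

/-- Some anisotropic vector is orthogonal to few orthogonal vectors. -/
theorem exists_aniso [FiniteDimensional (ZMod 3) W] {k : ℕ} {s : Fin k → W} (h : F.Orth s)
    (hk : k < Module.finrank (ZMod 3) W) : ∃ z, F.Perp s z ∧ F.B z z ≠ 0 := by
  by_contra hno
  push Not at hno
  have hzero : ∀ x, F.proj s x = 0 := by
    intro x
    refine F.nd _ fun y => ?_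
    rw [← B_proj (proj_perp h x) y]
    have hs := self_add (F := F) (F.proj s x) (F.proj s y)
    rw [hno _ (proj_perp h x), hno _ (proj_perp h y),
      hno _ ((proj_perp h x).add (proj_perp h y)), zero_add, zero_add] at hs
    exact (by decide : ∀ a : ZMod 3, 0 = a + a → a = 0) _ hs
  have htop : Submodule.span (ZMod 3) (Set.range s) = ⊤ := by
    rw [eq_top_iff]
    intro x _
    rw [sub_eq_zero.1 (hzero x)]
    exact Submodule.sum_mem _ fun i _ =>
      Submodule.smul_mem _ _ (Submodule.subset_span ⟨i, rfl⟩)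
  have := finrank_range_le_card (R := ZMod 3) s
  rw [Set.finrank, htop, finrank_top, Fintype.card_fin] at this
  omega

/-- Some point is orthogonal to few orthogonal vectors. -/
theorem exists_pt [FiniteDimensional (ZMod 3) W] {k : ℕ} {s : Fin k → W} (h : F.Orth s)
    (hk : k + 2 ≤ Module.finrank (ZMod 3) W) : ∃ z, F.Perp s z ∧ F.IsPt z := by
  obtain ⟨a, ha, ha'⟩ := exists_aniso h (by omega)
  rcases one_or_neg3 ha' with h1 | h1
  swap
  · exact ⟨a, ha, h1⟩
  obtain ⟨b, hb, hb'⟩ := exists_aniso (h.cons ha' ha) (by omega)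
  obtain ⟨hab, hb⟩ := perp_cons.1 hb
  rcases one_or_neg3 hb' with h2 | h2
  swap
  · exact ⟨b, hb, h2⟩
  refine ⟨a + b, ha.add hb, ?_⟩
  rw [IsPt, self_add, h1, h2, hab]
  decide

/-- An isotropic vector has an isotropic partner orthogonal to the family. -/
theorem exists_partner {k : ℕ} {s : Fin k → W} (h : F.Orth s) {u : W} (hu : F.IsIso u)
    (hup : F.Perp s u) : ∃ f, F.Perp s f ∧ F.IsIso f ∧ F.B u f = 1 := by
  obtain ⟨g, hg⟩ : ∃ g, F.B u g ≠ 0 := by
    by_contra hno
    push Not at hno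
    exact hu.1 (F.nd u hno)
  obtain ⟨f₁, h1, hp⟩ : ∃ f₁, F.B u f₁ = 1 ∧ F.Perp s f₁ :=
    ⟨F.B u g • F.proj s g, by rw [B_smul_right, B_proj hup, sq_one3 hg], (proj_perp h g).smul _⟩
  refine ⟨f₁ + F.B f₁ f₁ • u, hp.add (hup.smul _), ⟨?_, ?_⟩, ?_⟩
  · intro e
    have := congrArg (F.B u) e
    rw [B_add_right, B_smul_right, hu.2, h1, mul_zero, add_zero, map_zero] at this
    exact one_ne_zero this
  · rw [self_add, self_smul, hu.2, B_smul_right, F.symm f₁ u, h1]
    generalize F.B f₁ f₁ = a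
    revert a; decide
  · rw [B_add_right, B_smul_right, hu.2, h1, mul_zero, add_zero]

/-- A hyperbolic pair extends an orthogonal family. -/
theorem Orth.hyp {k : ℕ} {s : Fin k → W} (h : F.Orth s) {u f : W} (hu : F.IsIso u) (hf : F.IsIso f)
    (hu' : F.Perp s u) (hf' : F.Perp s f) (huf : F.B u f = 1) :
    F.Orth (Fin.cons (u + f) (Fin.cons (u - f) s) : Fin (k + 2) → W) := by
  have e1 : F.B (u - f) (u - f) = 1 := by
    simp only [B_sub_left, B_sub_right, hu.2, hf.2, huf, F.symm f u]; decide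
  have e2 : F.B (u + f) (u + f) = -1 := by rw [self_add, hu.2, hf.2, huf]; decide
  refine (h.cons (by rw [e1]; decide) (hu'.sub hf')).cons (by rw [e2]; decide) ?_
  refine perp_cons.2 ⟨?_, hu'.add hf'⟩
  simp only [B_sub_left, B_add_right, hu.2, hf.2, huf, F.symm f u]; decide

theorem perp_hyp {k : ℕ} {s : Fin k → W} {u f v : W} :
    F.Perp (Fin.cons (u + f) (Fin.cons (u - f) s) : Fin (k + 2) → W) v ↔
      F.B u v = 0 ∧ F.B f v = 0 ∧ F.Perp s v := by
  rw [perp_cons, perp_cons]
  simp only [B_add_left, B_sub_left]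
  generalize F.B u v = a
  generalize F.B f v = b
  refine ⟨fun h => ⟨?_, ?_, h.2.2⟩, fun h => ⟨by rw [h.1, h.2.1, add_zero], by rw [h.1, h.2.1, sub_zero], h.2.2⟩⟩
  · exact (by decide : ∀ a b : ZMod 3, a + b = 0 → a - b = 0 → a = 0) a b h.1 h.2.1
  · exact (by decide : ∀ a b : ZMod 3, a + b = 0 → a - b = 0 → b = 0) a b h.1 h.2.1

/-- A point orthogonal to a family and to an isotropic vector orthogonal to it. -/
theorem exists_pt_iso [FiniteDimensional (ZMod 3) W] {k : ℕ} {s : Fin k → W} (h : F.Orth s)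
    {w : W} (hw : F.IsIso w) (hwp : F.Perp s w) (hk : k + 4 ≤ Module.finrank (ZMod 3) W) :
    ∃ z, F.Perp s z ∧ F.IsPt z ∧ F.B w z = 0 := by
  obtain ⟨f, hfp, hf, hwf⟩ := exists_partner h hw hwp
  obtain ⟨z, hz, hz'⟩ := exists_pt (h.hyp hw hf hwp hfp hwf) (by omega)
  obtain ⟨h1, -, h3⟩ := perp_hyp.1 hz
  exact ⟨z, h3, hz', h1⟩

theorem IsPt.add_iso {z w : W} (hz : F.IsPt z) (hw : F.B w w = 0) (hzw : F.B w z = 0) (a : ZMod 3) :
    F.IsPt (z + a • w) := by
  rw [IsPt, self_add, self_smul, hw, hz.self, B_smul_right, F.symm z w, hzw]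
  ring

/-- An isotropic vector is determined by the points orthogonal to it and to a family. -/
theorem iso_unique {k : ℕ} {s : Fin k → W} (h : F.Orth s) {w u : W} (hw : F.IsIso w)
    (hu : F.B u u = 0) (hwp : F.Perp s w) (hup : F.Perp s u) {z₀ : W} (hz₀ : F.IsPt z₀)
    (hz₀p : F.Perp s z₀) (hz₀w : F.B w z₀ = 0)
    (hall : ∀ z, F.IsPt z → F.Perp s z → F.B w z = 0 → F.B u z = 0) : ∃ t : ZMod 3, u = t • w := by
  have huw : F.B u w = 0 := by
    have h1 := hall (z₀ + (1 : ZMod 3) • w) (hz₀.add_iso hw.2 hz₀w 1) (hz₀p.add (hwp.smul 1))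
      (by rw [B_add_right, B_smul_right, hz₀w, hw.2, mul_zero, add_zero])
    rwa [B_add_right, hall z₀ hz₀ hz₀p hz₀w, zero_add, one_smul] at h1
  obtain ⟨f, hfp, hf, hwf⟩ := exists_partner h hw hwp
  refine ⟨F.B u f, ?_⟩
  by_contra hne
  set u₀ := u - F.B u f • w with hu₀
  have h0 : F.IsIso u₀ := ⟨sub_ne_zero.2 hne, by
    rw [hu₀, B_sub_left, B_sub_right, B_sub_right, B_smul_left, B_smul_left, B_smul_right, hu, huw,
      B_smul_right, hw.2, F.symm w u, huw]
    ring⟩
  have hp : F.Perp (Fin.cons (w + f) (Fin.cons (w - f) s) : Fin (k + 2) → W) u₀ := by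
    refine perp_hyp.2 ⟨?_, ?_, hup.sub (hwp.smul _)⟩
    · rw [hu₀, B_sub_right, B_smul_right, F.symm w u, huw, hw.2, mul_zero, sub_zero]
    · rw [hu₀, B_sub_right, B_smul_right, F.symm f u, F.symm f w, hwf, mul_one, sub_self]
  obtain ⟨g, hgp, hg, hug⟩ := exists_partner (h.hyp hw hf hwp hfp hwf) h0 hp
  obtain ⟨hwg, -, hgs⟩ := perp_hyp.1 hgp
  obtain ⟨hwu, -, hus⟩ := perp_hyp.1 hp
  have hz : F.IsPt (u₀ + g) := by rw [IsPt, self_add, h0.2, hg.2, hug]; decide
  have hv := hall _ hz (hus.add hgs) (by rw [B_add_right, hwu, hwg, add_zero])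
  have e : u = u₀ + F.B u f • w := (sub_add_cancel _ _).symm
  rw [e, B_add_left, B_smul_left, B_add_right w u₀ g, hwu, hwg, B_add_right u₀, h0.2, hug] at hv
  simp at hv

end Form

end Cfsg.Agent.FischerO3
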