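import Cfsg.Agent.Lib.FischerO3.Geom

set_option autoImplicit false

/-!
Lines of three points, and the isotropic vector of a line.
-/

namespace Cfsg.Agent.FischerO3

variable {W : Type*} [AddCommGroup W] [Module (ZMod 3) W]

section PM

omit [Module (ZMod 3) W]

/-- Equal up to sign. -/
def PM (u v : W) : Prop := u = v ∨ u = -v

theorem PM.rfl {u : W} : PM u u := Or.inl (Eq.refl u)

theorem PM.symm {u v : W} (h : PM u v) : PM v u := by
  rcases h with rfl | rfl
  · exact PM.rfl
  · exact Or.inr (neg_neg v).symm

theorem PM.trans {u v x : W} (h : PM u v) (h' : PM v x) : PM u x := by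
  rcases h with rfl | rfl
  · exact h'
  · rcases h' with rfl | rfl
    · exact Or.inr (Eq.refl _)
    · exact Or.inl (neg_neg x)

end PM

theorem PM.smul {u v : W} (h : PM u v) (a : ZMod 3) : PM (a • u) (a • v) := by
  rcases h with rfl | rfl
  · exact PM.rfl
  · exact Or.inr (smul_neg a v)

theorem PM.of_smul {u v : W} {t : ZMod 3} (ht : t ≠ 0) (h : u = t • v) : PM u v := by
  rcases one_or_neg3 ht with rfl | rfl
  · exact Or.inl (h.trans (one_smul _ v))
  · exact Or.inr (h.trans (by rw [neg_smul, one_smul]))

namespace Form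

variable {F : Form W}

theorem pm_B_zero {u v x : W} (h : PM u v) : F.B u x = 0 ↔ F.B v x = 0 := by
  rcases h with rfl | rfl <;> simp

theorem pm_B_zero' {u v x : W} (h : PM u v) : F.B x u = 0 ↔ F.B x v = 0 := by
  rw [F.symm x u, F.symm x v]; exact pm_B_zero h

theorem pm_pt {u v : W} (h : PM u v) (hv : F.IsPt v) : F.IsPt u := by
  rcases h with rfl | rfl
  exacts [hv, hv.neg]

theorem pm_refl {u v x : W} (h : PM u v) : F.refl u x = F.refl v x := by
  rcases h with rfl | rfl
  exacts [rfl, refl_neg_left _ _]

theorem PM_refl {v x y : W} (h : PM x y) : PM (F.refl v x) (F.refl v y) := by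
  rcases h with rfl | rfl
  · exact PM.rfl
  · exact Or.inr (by simp [Form.refl, sub_eq_add_neg, add_comm])

/-- The isotropic vector of the line through two non-orthogonal points. -/
def lineVec (F : Form W) (a b : W) : W := b + F.B a b • a

theorem lineVec_perp {a b : W} (ha : F.IsPt a) : F.B a (F.lineVec a b) = 0 := by
  rw [lineVec, B_add_right, B_smul_right, ha.self, mul_neg, mul_one, add_neg_cancel]

theorem lineVec_sq {a b : W} (ha : F.IsPt a) (hb : F.IsPt b) (hab : F.B a b ≠ 0) :
    F.B (F.lineVec a b) (F.lineVec a b) = 0 := by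
  rw [lineVec, self_add, self_smul, ha.self, hb.self, B_smul_right, F.symm b a, sq_one3 hab]
  decide

theorem lineVec_iso {a b : W} (ha : F.IsPt a) (hb : F.IsPt b) (hab : F.B a b ≠ 0) (hne : ¬ PM b a) :
    F.IsIso (F.lineVec a b) := by
  refine ⟨fun e => ?_, lineVec_sq ha hb hab⟩
  rw [lineVec, add_eq_zero_iff_eq_neg, ← neg_smul] at e
  exact hne (PM.of_smul (neg_ne_zero.2 hab) e)

theorem refl_line {a b : W} : F.refl a b = F.lineVec a b + F.B a b • a := by
  rw [Form.refl, lineVec, add_assoc, ← add_smul, sub_eq_add_neg, ← neg_smul]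
  congr 2
  generalize F.B a b = t
  revert t; decide

/-- A vector is orthogonal to the isotropic vector of a line when it is orthogonal to none or all three
points. -/
theorem lineVec_iff {a b : W} (hab : F.B a b ≠ 0) (u : W) :
    F.B (F.lineVec a b) u = 0 ↔
      ((F.B a u = 0 ↔ F.B b u = 0) ∧ (F.B a u = 0 ↔ F.B (F.refl a b) u = 0)) := by
  rw [lineVec, Form.refl, B_add_left, B_sub_left, B_smul_left]
  generalize F.B a b = t at *
  generalize F.B a u = x
  generalize F.B b u = y
  revert t x y
  decide

theorem add_iso_lineVec {a w : W} (ha : F.IsPt a) (haw : F.B a w = 0) :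
    F.lineVec a (a + w) = w := by
  rw [lineVec, B_add_right, ha.self, haw, add_zero, neg_smul, one_smul]
  abel

end Form

end Cfsg.Agent.FischerO3
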