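import Cfsg.Agent.Lib.FischerO3.Geom

set_option autoImplicit false

/-!
Isotropic vectors not orthogonal to given ones.
-/

namespace Cfsg.Agent.FischerO3

variable {W : Type*} [AddCommGroup W] [Module (ZMod 3) W] [FiniteDimensional (ZMod 3) W] {F : Form W}

namespace Form

/-- An isotropic vector orthogonal to neither of two. -/
theorem exists_link_two (h5 : 5 ≤ Module.finrank (ZMod 3) W) {w c : W} (hw : F.IsIso w) (hc : F.IsIso c) :
    ∃ u, F.IsIso u ∧ F.B u w ≠ 0 ∧ F.B u c ≠ 0 := by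
  by_cases hwc : F.B w c = 0
  · obtain ⟨f, -, hf, hwf⟩ := exists_partner Orth.elim0 hw (perp_elim0 w)
    by_cases hfc : F.B f c = 0
    · obtain ⟨g, hg, hgi, hcg⟩ := exists_partner
        (Orth.elim0.hyp hw hf (perp_elim0 w) (perp_elim0 f) hwf) hc (perp_hyp.2 ⟨hwc, hfc, perp_elim0 c⟩)
      obtain ⟨hwg, hfg, -⟩ := perp_hyp.1 hg
      refine ⟨f + g, ⟨fun e => ?_, ?_⟩, ?_, ?_⟩
      · have := congrArg (F.B w) e
        rw [B_add_right, hwf, hwg, add_zero, map_zero] at this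
        exact one_ne_zero this
      · rw [self_add, hf.2, hgi.2, hfg]; ring
      · rw [B_add_left, F.symm f w, F.symm g w, hwf, hwg, add_zero]; exact one_ne_zero
      · rw [B_add_left, hfc, F.symm g c, hcg, zero_add]; exact one_ne_zero
    · exact ⟨f, hf, by rw [F.symm, hwf]; exact one_ne_zero, hfc⟩
  · set c' := F.B w c • c with hc'
    have e1 : F.B w c' = 1 := by rw [hc', B_smul_right, sq_one3 hwc]
    have hi : F.IsIso c' := ⟨smul_ne_zero hwc hc.1, by rw [hc', self_smul, hc.2, mul_zero]⟩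
    obtain ⟨z, hz, hzz⟩ := exists_aniso
      (Orth.elim0.hyp hw hi (perp_elim0 w) (perp_elim0 c') e1) (by omega)
    obtain ⟨hwz, hcz, -⟩ := perp_hyp.1 hz
    have hcz' : F.B c z = 0 := by
      rw [hc', B_smul_left] at hcz
      exact (mul_eq_zero.1 hcz).resolve_left hwc
    refine ⟨w + F.B z z • c' + z, ⟨fun e => ?_, ?_⟩, ?_, ?_⟩
    · have := congrArg (F.B c') e
      rw [B_add_right, B_add_right, B_smul_right, hi.2, hcz, F.symm c' w, e1, mul_zero, add_zero, add_zero,
        map_zero] at this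
      exact one_ne_zero this
    · rw [self_add, self_add, self_smul, hw.2, hi.2, B_smul_right, e1, B_add_left, B_smul_left, hwz, hcz]
      generalize F.B z z = t
      revert t; decide
    · rw [B_add_left, B_add_left, B_smul_left, F.symm c' w, e1, hw.2, F.symm z w, hwz]
      simpa using hzz
    · rw [B_add_left, B_add_left, B_smul_left, hc', B_smul_left, hc.2, F.symm z c, hcz']
      simpa using hwc

/-- An isotropic vector orthogonal to none of `w`, `c`, `u`, `p`. -/
theorem exists_link_four (h5 : 5 ≤ Module.finrank (ZMod 3) W) {w c u p : W} (hw : F.IsIso w)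
    (hu : F.IsIso u) (hp : F.IsIso p) (hwc : F.B w c = 0) (hwu : F.B w u ≠ 0) (huc : F.B u c ≠ 0)
    (hwp : F.B w p ≠ 0) (hup : F.B u p = 0) :
    ∃ v, F.IsIso v ∧ F.B v w ≠ 0 ∧ F.B v c ≠ 0 ∧ F.B v u ≠ 0 ∧ F.B v p ≠ 0 := by
  obtain ⟨u', hu'⟩ : ∃ u', u' = F.B w u • u := ⟨_, rfl⟩
  have e1 : F.B w u' = 1 := by rw [hu', B_smul_right, sq_one3 hwu]
  have hi : F.IsIso u' := ⟨hu' ▸ smul_ne_zero hwu hu.1, by rw [hu', self_smul, hu.2, mul_zero]⟩
  have hup' : F.B u' p = 0 := by rw [hu', B_smul_left, hup, mul_zero]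
  have huc' : F.B u' c ≠ 0 := by rw [hu', B_smul_left]; exact mul_ne_zero hwu huc
  have hO := Orth.elim0.hyp hw hi (perp_elim0 w) (perp_elim0 u') e1
  obtain ⟨z, hwz, huz, hpz, hzz⟩ :
      ∃ z, F.B w z = 0 ∧ F.B u' z = 0 ∧ F.B p z = 0 ∧ F.B z z ≠ 0 := by
    obtain ⟨p', hp'⟩ : ∃ p', p' = p - F.B w p • u' := ⟨_, rfl⟩
    by_cases h0 : p' = 0
    · obtain ⟨z, hz, hzz⟩ := exists_aniso hO (by omega)
      obtain ⟨h1, h2, -⟩ := perp_hyp.1 hz
      exact ⟨z, h1, h2, by rw [sub_eq_zero.1 (hp'.symm.trans h0), B_smul_left, h2, mul_zero], hzz⟩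
    · have hp0 : F.IsIso p' := ⟨h0, by
        rw [hp', B_sub_left, B_sub_right, B_sub_right, B_smul_left, B_smul_left, B_smul_right, B_smul_right,
          hp.2, hup', hi.2, F.symm p u', hup']
        ring⟩
      have hpp : F.Perp _ p' := perp_hyp.2 ⟨by rw [hp', B_sub_right, B_smul_right, e1, mul_one, sub_self],
        by rw [hp', B_sub_right, B_smul_right, hup', hi.2, mul_zero, sub_zero], perp_elim0 p'⟩
      obtain ⟨f, hf, hfi, hpf⟩ := exists_partner hO hp0 hpp
      obtain ⟨z, hz, hzz⟩ := exists_aniso (hO.hyp hp0 hfi hpp hf hpf) (by omega)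
      obtain ⟨h3, -, h12⟩ := perp_hyp.1 hz
      obtain ⟨h1, h2, -⟩ := perp_hyp.1 h12
      rw [hp', B_sub_left, B_smul_left, h2, mul_zero, sub_zero] at h3
      exact ⟨z, h1, h2, h3, hzz⟩
  obtain ⟨s, hs, hsc⟩ : ∃ s : ZMod 3, s ≠ 0 ∧ F.B z z * F.B u' c + s * F.B z c ≠ 0 :=
    (by decide : ∀ a b : ZMod 3, a ≠ 0 → ∃ s : ZMod 3, s ≠ 0 ∧ a + s * b ≠ 0) _ _ (mul_ne_zero hzz huc')
  have huv : ∀ x, F.B (w + F.B z z • u' + s • z) x = F.B w x + F.B z z * F.B u' x + s * F.B z x := fun x => by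
    rw [B_add_left, B_add_left, B_smul_left, B_smul_left]
  refine ⟨w + F.B z z • u' + s • z, ⟨fun e => ?_, ?_⟩, ?_, ?_, ?_, ?_⟩
  · have := huv u'
    rw [e, map_zero, LinearMap.zero_apply, e1, hi.2, F.symm z u', huz] at this
    simp at this
  · rw [huv, B_add_right, B_add_right, B_smul_right, B_smul_right, B_add_right, B_add_right, B_smul_right,
      B_smul_right, B_add_right, B_add_right, B_smul_right, B_smul_right, hw.2, e1, hwz, hi.2, huz,
      F.symm u' w, e1, F.symm z w, hwz, F.symm z u', huz]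
    rcases one_or_neg3 hs with rfl | rfl <;>
      (generalize F.B z z = t; revert t; decide)
  · rw [huv, hw.2, F.symm u' w, e1, F.symm z w, hwz]
    simpa using hzz
  · rw [huv, hwc, zero_add]; exact hsc
  · rw [huv, F.symm z u]
    have huz0 : F.B u z = 0 := by
      rw [hu', B_smul_left] at huz
      exact (mul_eq_zero.1 huz).resolve_left hwu
    rw [huz0, hu', B_smul_left, hu.2]
    simpa using hwu
  · rw [huv, hup', F.symm z p, hpz]
    simpa using hwp

/-- An isotropic vector orthogonal to none of `w`, `c`, `e`, with `w` orthogonal to the other two. -/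
theorem exists_link_three {w c e : W} (hw : F.IsIso w) (hc : F.IsIso c) (he : F.IsIso e)
    (hce : F.B c e ≠ 0) (hwc : F.B w c = 0) (hwe : F.B w e = 0) :
    ∃ u, F.IsIso u ∧ F.B u w ≠ 0 ∧ F.B u c ≠ 0 ∧ F.B u e ≠ 0 := by
  set e' := F.B c e • e with he'
  have e1 : F.B c e' = 1 := by rw [he', B_smul_right, sq_one3 hce]
  have hi : F.IsIso e' := ⟨smul_ne_zero hce he.1, by rw [he', self_smul, he.2, mul_zero]⟩
  have hwe' : F.B w e' = 0 := by rw [he', B_smul_right, hwe, mul_zero]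
  obtain ⟨f, hf, hfi, hwf⟩ := exists_partner (Orth.elim0.hyp hc hi (perp_elim0 c) (perp_elim0 e') e1) hw
    (perp_hyp.2 ⟨by rw [F.symm]; exact hwc, by rw [F.symm]; exact hwe', perp_elim0 w⟩)
  obtain ⟨hcf, hef, -⟩ := perp_hyp.1 hf
  have huv : ∀ x, F.B (c - e' + (w + f)) x = F.B c x - F.B e' x + (F.B w x + F.B f x) := fun x => by
    rw [B_add_left, B_sub_left, B_add_left]
  have hcw : F.B c w = 0 := by rw [F.symm]; exact hwc
  have hew : F.B e' w = 0 := by rw [F.symm]; exact hwe'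
  refine ⟨c - e' + (w + f), ⟨fun h0 => ?_, ?_⟩, ?_, ?_, ?_⟩
  · have := huv w
    rw [h0, map_zero, LinearMap.zero_apply, hcw, hew, hw.2, F.symm f w, hwf] at this
    simp at this
  · simp only [huv, B_add_right, B_sub_right, hc.2, hi.2, hw.2, hfi.2, e1, hwc, hwe', hcw, hew, hwf, hcf, hef,
      F.symm e' c, F.symm f c, F.symm f e', F.symm f w]
    decide
  · rw [huv, hcw, hew, hw.2, F.symm f w, hwf]; simp
  · rw [huv, hc.2, F.symm e' c, e1, hwc, F.symm f c, hcf]; simp
  · have hee : F.B e' e = 0 := by rw [he', B_smul_left, he.2, mul_zero]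
    have hfe : F.B f e = 0 := by
      rw [he', B_smul_left, F.symm e f] at hef
      exact (mul_eq_zero.1 hef).resolve_left hce
    rw [huv, hee, hwe, hfe]
    simpa using hce

end Form

end Cfsg.Agent.FischerO3
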