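import Cfsg.Agent.Lib.FischerO3.Agree

set_option autoImplicit false

/-!
The common partners of two non-commuting members `d`, `c` are, in a labelling at `d`, all points orthogonal
to one isotropic vector, and that vector determines the pair `c`, `dcd`.
-/

namespace Cfsg.Agent.FischerO3

open Cfsg.Agent.Fischer
open Cfsg.Agent.Fischer.LocalSymThree (nb nb_symm)

variable {G : Type*} [Group G] {D : Set G}
variable {W : Type*} [AddCommGroup W] [Module (ZMod 3) W]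
variable {F : Form W} {d : G}

/-- `w` is the isotropic vector of the pair of `c`. -/
def IsV (A : View D F d) (c : G) (w : W) : Prop :=
  F.IsIso w ∧ ∀ u ∈ nb D d, (Commute c u ↔ F.B w (A.toV u) = 0)

theorem Form.IsIso.pm {w w' : W} (h : PM w w') (hw : F.IsIso w') : F.IsIso w := by
  rcases h with rfl | rfl
  · exact hw
  · exact ⟨neg_ne_zero.2 hw.1, by simpa using hw.2⟩

theorem IsW.pm {A : View D F d} {c x : G} {w w' : W} (h : IsW A c x w) (hp : PM w' w) : IsW A c x w' :=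
  ⟨h.1.pm hp, (Form.pm_B_zero' hp).2 h.2.1,
    fun u hu hu' => (h.2.2 u hu hu').trans (Form.pm_B_zero hp).symm⟩

theorem IsV.pm {A : View D F d} {c : G} {w w' : W} (h : IsV A c w) (hp : PM w' w) : IsV A c w' :=
  ⟨h.1.pm hp, fun u hu => (h.2 u hu).trans (Form.pm_B_zero hp).symm⟩

theorem IsV.toW {A : View D F d} {c x : G} {w : W} (h : IsV A c w) (hx : x ∈ nb D d) (hcx : Commute c x) :
    IsW A c x w :=
  ⟨h.1, by rw [F.symm]; exact (h.2 x hx).1 hcx, fun u hu _ => h.2 u hu⟩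

theorem IsV.dconj {A : View D F d} {c : G} {w : W} (h : IsV A c w) : IsV A (d * c * d⁻¹) w := by
  refine ⟨h.1, fun u hu => ?_⟩
  have := commute_conj_iff d c u
  rw [conj_eq_self_of_commute hu.2.2] at this
  rw [this, h.2 u hu]

variable [FiniteDimensional (ZMod 3) W]

/-- The vector does not change along a translation by it. -/
theorem IsW.translate (hC : Cx D F) (hd : d ∈ D) {A : View D F d} {x x' c : G} (hx : x ∈ nb D d)
    (hx' : x' ∈ nb D d) (hc : c ∈ D) (hnc : ¬ Commute d c) (hcx : Commute c x) {w : W}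
    (h : IsW A c x w) {γ : ZMod 3} (hp : PM (A.toV x') (A.toV x + γ • w)) :
    Commute c x' ∧ IsW A c x' w := by
  obtain ⟨z, hzp, hz, hwz⟩ := Form.exists_pt_iso (Form.orth_single (A.pt x hx)) h.1
    (Form.perp_single.2 h.2.1) (by have := hC.dim; omega)
  rw [Form.perp_single] at hzp
  obtain ⟨u, hu, eu⟩ := A.surj z hz
  have hxu := (A.B_zero_iff hx hu).1 ((Form.pm_B_zero' eu).2 hzp)
  have hux : u ∈ nb D x := ⟨hu.1, hxu.1.symm, hxu.2⟩
  have hcu : Commute c u := (h.2.2 u hu hux).2 ((Form.pm_B_zero' eu).2 hwz)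
  obtain ⟨wu, hwu⟩ := exists_isW hC hd A hu hc hnc hcu
  have hu' : IsW A c u w := hwu.pm (agree hC hd A hx hu hux hc hnc hcx hcu h hwu)
  have h0 : F.B (A.toV u) (A.toV x') = 0 := by
    rw [Form.pm_B_zero eu, Form.pm_B_zero' hp, Form.B_add_right, Form.B_smul_right, F.symm z (A.toV x), hzp,
      F.symm z w, hwz]
    ring
  have hux' := (A.B_zero_iff hu hx').1 h0
  have hxu' : x' ∈ nb D u := ⟨hx'.1, hux'.1.symm, hux'.2⟩
  have hcx' : Commute c x' := (hu'.2.2 x' hx' hxu').2 (by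
    rw [Form.pm_B_zero' hp, Form.B_add_right, Form.B_smul_right, F.symm w (A.toV x), h.2.1, h.1.2]; ring)
  obtain ⟨w', hw'⟩ := exists_isW hC hd A hx' hc hnc hcx'
  exact ⟨hcx', hw'.pm (agree hC hd A hu hx' hxu' hc hnc hcu hcx' hu' hw')⟩

theorem perp_of_commute (hC : Cx D F) (hd : d ∈ D) (A : View D F d) {x x' c : G} (hx : x ∈ nb D d)
    (hx' : x' ∈ nb D d) (hc : c ∈ D) (hnc : ¬ Commute d c) (hcx : Commute c x) (hcx' : Commute c x')
    {w : W} (h : IsW A c x w) : F.B w (A.toV x') = 0 := by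
  by_contra ht
  set β := -(F.B (A.toV x) (A.toV x') * F.B w (A.toV x')) with hβ
  have hq : F.IsPt (A.toV x + β • w) :=
    (A.pt x hx).add_iso h.1.2 (by rw [F.symm]; exact h.2.1) β
  obtain ⟨u, hu, eu⟩ := A.surj _ hq
  obtain ⟨hcu, hwu⟩ := h.translate hC hd hx hu hc hnc hcx eu
  have h0 : F.B (A.toV u) (A.toV x') = 0 := by
    rw [Form.pm_B_zero eu, Form.B_add_left, Form.B_smul_left, hβ, neg_mul, mul_assoc, sq_one3 ht, mul_one,
      add_neg_cancel]
  have hux' := (A.B_zero_iff hu hx').1 h0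
  exact ht ((hwu.2.2 x' hx' ⟨hx'.1, hux'.1.symm, hux'.2⟩).1 hcx')

theorem commute_of_perp (hC : Cx D F) (hd : d ∈ D) (A : View D F d) {x a c : G} (hx : x ∈ nb D d)
    (ha : a ∈ nb D d) (hc : c ∈ D) (hnc : ¬ Commute d c) (hcx : Commute c x) {w : W}
    (h : IsW A c x w) (hwa : F.B w (A.toV a) = 0) : Commute c a := by
  by_contra hca
  have hT := hC.grp
  have hx₁ : a * x * a⁻¹ ∈ nb D d := nb_closed hT hx ha
  set x₁ := a * x * a⁻¹ with hx₁def
  -- the conjugate by any member over `a + β w`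
  have key : ∀ β : ZMod 3, ∃ u ∈ nb D d, PM (A.toV u) (A.toV a + β • w) ∧
      (u * c * u⁻¹ ≠ c → u = c * (u * c * u⁻¹) * c⁻¹) ∧
      ¬ Commute d (u * c * u⁻¹) ∧ Commute (u * c * u⁻¹) x₁ ∧ IsW A (u * c * u⁻¹) x₁ w := by
    intro β
    have hq : F.IsPt (A.toV a + β • w) := (A.pt a ha).add_iso h.1.2 hwa β
    obtain ⟨u, hu, eu⟩ := A.surj _ hq
    have hfix : F.refl (A.toV u) w = w := by
      rw [Form.pm_refl eu, Form.refl_fix]
      rw [Form.B_add_left, Form.B_smul_left, F.symm (A.toV a) w, hwa, h.1.2]; ring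
    have hxu : u * x * u⁻¹ ∈ nb D d := nb_closed hT hx hu
    have hud : u * d * u⁻¹ = d := conj_eq_self_of_commute hu.2.2.symm
    have hW : IsW A (u * c * u⁻¹) (u * x * u⁻¹) w := by
      have := h.motion hT hx (Motion.of_nb (A := A) hu)
      rwa [hfix] at this
    have hn : ¬ Commute d (u * c * u⁻¹) := fun e => hnc (by rw [← hud, commute_conj_iff] at e; exact e)
    have hm : Commute (u * c * u⁻¹) (u * x * u⁻¹) := (commute_conj_iff u c x).2 hcx
    have e1 : PM (A.toV (u * x * u⁻¹)) (F.refl (A.toV a + β • w) (A.toV x)) := by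
      rw [← Form.pm_refl eu]; exact A.conj x hx u hu
    have e2 : PM (A.toV x₁) (F.refl (A.toV a) (A.toV x)) := A.conj x hx a ha
    have e3 : F.refl (A.toV a + β • w) (A.toV x) =
        F.refl (A.toV a) (A.toV x) - (F.B (A.toV a) (A.toV x) * β) • w := by
      rw [Form.refl, Form.refl, Form.B_add_left, Form.B_smul_left, F.symm w (A.toV x), h.2.1, mul_zero,
        add_zero, smul_add, smul_smul]
      abel
    have hp : ∃ γ : ZMod 3, PM (A.toV x₁) (A.toV (u * x * u⁻¹) + γ • w) := by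
      rcases e1 with e1 | e1
      · refine ⟨F.B (A.toV a) (A.toV x) * β, e2.trans (Or.inl ?_)⟩
        rw [e1, e3]; abel
      · refine ⟨-(F.B (A.toV a) (A.toV x) * β), e2.trans (Or.inr ?_)⟩
        rw [e1, e3, neg_smul]; abel
    obtain ⟨γ, hγ⟩ := hp
    obtain ⟨h1, h2⟩ := hW.translate hC hd hxu hx₁ (hT.2.1 u c hc) hn hm hγ
    refine ⟨u, hu, eu, fun hne => ?_, hn, h1, h2⟩
    have huc : ¬ Commute u c := fun e => hne (conj_eq_self_of_commute e)
    rw [TSet.inv hT.1 hu.1, TSet.inv hT.1 hc, TSet.braid hT.1 hu.1 hc huc]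
    simp only [mul_assoc, TSet.sq hT.1 hc, mul_one]
    rw [← mul_assoc c c u, TSet.sq hT.1 hc, one_mul]
  obtain ⟨u₀, hu₀, eu₀, -, hn₀, hm₀, hW₀⟩ := key 0
  have hu₀a : u₀ = a := A.inj u₀ hu₀ a ha (by simpa using eu₀)
  subst hu₀a
  set c₁ := u₀ * c * u₀⁻¹ with hc₁def
  have hc₁ : c₁ ∈ D := hT.2.1 _ c hc
  have hne₁ : c ≠ c₁ := fun e => hca
    ((OddCoreLocal.commute_conj_self_iff.1 e.symm).symm)
  have hne₂ : c ≠ d * c₁ * d⁻¹ := by
    intro e
    have e' : d * c * d⁻¹ = c₁ := by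
      rw [e]
      simp only [TSet.inv hT.1 hd, mul_assoc, TSet.sq hT.1 hd, mul_one]
      rw [← mul_assoc d d c₁, TSet.sq hT.1 hd, one_mul]
    rw [hc₁def, TSet.inv hT.1 hd, TSet.inv hT.1 ha.1, TSet.braid hT.1 hd hc hnc,
      TSet.braid hT.1 ha.1 hc (fun e => hca e.symm)] at e'
    exact ha.2.1 (mul_left_cancel (mul_right_cancel e')).symm
  have two : ∀ β : ZMod 3, ∃ u ∈ nb D d, PM (A.toV u) (A.toV u₀ + β • w) ∧
      (u = c * c₁ * c⁻¹ ∨ u = c * (d * c₁ * d⁻¹) * c⁻¹) := by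
    intro β
    obtain ⟨u, hu, eu, hdet, hn, hm, hW⟩ := key β
    refine ⟨u, hu, eu, ?_⟩
    rcases IsW.pair hC hd hx₁ hc₁ hn₀ hm₀ (hT.2.1 u c hc) hn hm hW₀ hW with hh | hh
    · exact Or.inl ((hdet fun e => hne₁ (e.symm.trans hh)).trans (by rw [hh]))
    · exact Or.inr ((hdet fun e => hne₂ (e.symm.trans hh)).trans (by rw [hh]))
  have sep : ∀ {β β' : ZMod 3}, PM (A.toV u₀ + β • w) (A.toV u₀ + β' • w) → β = β' := by
    intro β β' hp
    rcases hp with hp | hp
    · by_contra hne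
      have h0 : (β - β') • w = 0 := by rw [sub_smul, sub_eq_zero.2 (add_left_cancel hp)]
      exact h.1.1 ((smul_eq_zero.1 h0).resolve_left (sub_ne_zero.2 hne))
    · have h0 := congrArg (F.B (A.toV u₀)) hp
      rw [map_neg, Form.B_add_right, Form.B_add_right, Form.B_smul_right, Form.B_smul_right,
        (A.pt u₀ ha).self, F.symm (A.toV u₀) w, hwa] at h0
      simp at h0
      exact absurd h0 (by decide)
  obtain ⟨p, -, ep, hp⟩ := two 0
  obtain ⟨q, -, eq, hq⟩ := two 1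
  obtain ⟨r, -, er, hr⟩ := two (-1)
  have n1 : p ≠ q := fun e => absurd (sep ((ep.symm.trans (e ▸ eq)))) (by decide)
  have n2 : p ≠ r := fun e => absurd (sep ((ep.symm.trans (e ▸ er)))) (by decide)
  have n3 : q ≠ r := fun e => absurd (sep ((eq.symm.trans (e ▸ er)))) (by decide)
  rcases hp with hp | hp <;> rcases hq with hq | hq <;> rcases hr with hr | hr
  all_goals first
    | exact n1 (hp.trans hq.symm)
    | exact n2 (hp.trans hr.symm)
    | exact n3 (hq.trans hr.symm)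

theorem exists_isV (hC : Cx D F) (hd : d ∈ D) (A : View D F d) {c : G} (hc : c ∈ D)
    (hnc : ¬ Commute d c) : ∃ w, IsV A c w := by
  obtain ⟨x, hx, hcx⟩ := hC.common d hd c hc hnc
  obtain ⟨w, h⟩ := exists_isW hC hd A hx hc hnc hcx
  exact ⟨w, h.1, fun u hu => ⟨fun hcu => perp_of_commute hC hd A hx hu hc hnc hcx hcu h,
    fun hwu => commute_of_perp hC hd A hx hu hc hnc hcx h hwu⟩⟩

theorem Form.exists_pt_perp_iso {w : W} (hw : F.IsIso w) (h5 : 5 ≤ Module.finrank (ZMod 3) W) :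
    ∃ z, F.IsPt z ∧ F.B w z = 0 := by
  obtain ⟨z, -, hz, hwz⟩ := Form.exists_pt_iso Form.Orth.elim0 hw (Form.perp_elim0 w) (by omega)
  exact ⟨z, hz, hwz⟩

theorem IsV.unique (hC : Cx D F) {A : View D F d} {c : G} {w w' : W} (h : IsV A c w) (h' : IsV A c w') :
    PM w w' := by
  obtain ⟨z, hz, hwz⟩ := Form.exists_pt_perp_iso h.1 hC.dim
  obtain ⟨t, ht⟩ := Form.iso_unique Form.Orth.elim0 h.1 h'.1.2 (Form.perp_elim0 w) (Form.perp_elim0 w') hz
    (Form.perp_elim0 z) hwz (fun v hv _ hwv => by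
      obtain ⟨u, hu, eu⟩ := A.surj v hv
      rw [← Form.pm_B_zero' eu]
      exact (h'.2 u hu).1 ((h.2 u hu).2 ((Form.pm_B_zero' eu).2 hwv)))
  refine (PM.of_smul (fun e => h'.1.1 ?_) ht).symm
  rw [ht, e, zero_smul]

theorem IsV.pair (hC : Cx D F) (hd : d ∈ D) {A : View D F d} {c e : G} (hc : c ∈ D)
    (hnc : ¬ Commute d c) (he : e ∈ D) (hne : ¬ Commute d e) {w w' : W} (h : IsV A c w) (h' : IsV A e w')
    (hp : PM w' w) : e = c ∨ e = d * c * d⁻¹ := by
  obtain ⟨z, hz, hwz⟩ := Form.exists_pt_perp_iso h.1 hC.dim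
  obtain ⟨x, hx, ex⟩ := A.surj z hz
  have hcx : Commute c x := (h.2 x hx).2 ((Form.pm_B_zero' ex).2 hwz)
  have he' := h'.pm hp.symm
  have hex : Commute e x := (he'.2 x hx).2 ((Form.pm_B_zero' ex).2 hwz)
  exact IsW.pair hC hd hx hc hnc hcx he hne hex (h.toW hx hcx) (he'.toW hx hex)

theorem exists_of_iso (hC : Cx D F) (hd : d ∈ D) (A : View D F d) {w : W} (hw : F.IsIso w) :
    ∃ c ∈ D, ¬ Commute d c ∧ IsV A c w := by
  obtain ⟨z, hz, hwz⟩ := Form.exists_pt_perp_iso hw hC.dim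
  obtain ⟨x, hx, ex⟩ := A.surj z hz
  obtain ⟨c, hc, hnc, hcx, hW⟩ := exists_member hC hd A hx hw
    (by rw [F.symm]; exact (Form.pm_B_zero' ex).2 hwz)
  obtain ⟨w', hw'⟩ := exists_isV hC hd A hc hnc
  exact ⟨c, hc, hnc, hw'.pm (IsW.unique hC hx hW (hw'.toW hx hcx))⟩

end Cfsg.Agent.FischerO3
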