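import Cfsg.Agent.Lib.FischerO3.Common
import Cfsg.Agent.Lib.Fischer.ReflectMod3
import Cfsg.Agent.Lib.FischerClass.Defs

set_option autoImplicit false

/-!
A group of 3-transpositions whose members are labelled by the vectors of one norm, commuting exactly when
orthogonal, is the projective reflection group.
-/

namespace Cfsg.Agent.FischerO3

open Cfsg.Agent.Fischer
open Cfsg.Agent.Fischer.LocalSymThree (nb nb_symm)
open Matrix QuadraticMap

variable {n : ℕ}

/-- The form of a quadratic form, scaled so that the norm in question becomes the value `-1`. -/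
noncomputable def formOf (Q : QuadraticForm (ZMod 3) (Fin n → ZMod 3))
    (hQ : (QuadraticMap.polarBilin Q).Nondegenerate) {c : ZMod 3} (hc : c ≠ 0) :
    Form (Fin n → ZMod 3) where
  B := c • QuadraticMap.polarBilin Q
  symm u v := by simp only [LinearMap.smul_apply, QuadraticMap.polarBilin_apply_apply, polar_comm]
  nd u h := hQ.1 u fun v => (smul_eq_zero.1 (h v)).resolve_left hc

section

variable {Q : QuadraticForm (ZMod 3) (Fin n → ZMod 3)} {hQ : (QuadraticMap.polarBilin Q).Nondegenerate}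
variable {c : ZMod 3} {hc : c ≠ 0}

theorem formOf_B (u v : Fin n → ZMod 3) : (formOf Q hQ hc).B u v = c * polar (⇑Q) u v := rfl

theorem formOf_zero (u v : Fin n → ZMod 3) : (formOf Q hQ hc).B u v = 0 ↔ polar (⇑Q) u v = 0 := by
  rw [formOf_B, mul_eq_zero, or_iff_right hc]

theorem formOf_pt (v : Fin n → ZMod 3) : (formOf Q hQ hc).IsPt v ↔ Q v = c := by
  rw [Form.IsPt, formOf_B, polar_self, two_nsmul]
  have key : ∀ a b : ZMod 3, a ≠ 0 → (a * (b + b) = -1 ↔ b = a) := by decide
  exact key c (Q v) hc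

theorem refl_formOf {v : Fin n → ZMod 3} (hv : Q v = c) (x : Fin n → ZMod 3) :
    Cfsg.reflectionMatrix (⇑Q) v *ᵥ x = (formOf Q hQ hc).refl v x := by
  rw [Mod3.refl_mulVec, Form.refl, formOf_B, hv, Mod3.inv_eq_self]

/-- An element of the reflection group as a linear map of the space. -/
def ap (g : Cfsg.isometryGroup (ZMod 3) (⇑Q)) (v : Fin n → ZMod 3) : Fin n → ZMod 3 :=
  ((g : GL (Fin n) (ZMod 3)) : Matrix (Fin n) (Fin n) (ZMod 3)) *ᵥ v

theorem ap_mul (g h : Cfsg.isometryGroup (ZMod 3) (⇑Q)) (v : Fin n → ZMod 3) :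
    ap (g * h) v = ap g (ap h v) := by simp [ap, Matrix.mulVec_mulVec]

theorem ap_one (v : Fin n → ZMod 3) : ap (1 : Cfsg.isometryGroup (ZMod 3) (⇑Q)) v = v := by simp [ap]

theorem ap_neg (g : Cfsg.isometryGroup (ZMod 3) (⇑Q)) (v : Fin n → ZMod 3) : ap g (-v) = -ap g v :=
  Matrix.mulVec_neg _ _

theorem ap_pm (g : Cfsg.isometryGroup (ZMod 3) (⇑Q)) {u v : Fin n → ZMod 3} (h : PM u v) :
    PM (ap g u) (ap g v) := by
  rcases h with rfl | rfl
  · exact PM.rfl
  · exact Or.inr (ap_neg g v)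

include hQ in
theorem pm_of_refl_eq {u v : Fin n → ZMod 3} (hu : Q u = c) (hv : Q v = c)
    (h : Mod3.refl hc u hu = Mod3.refl hc v hv) : PM u v := by
  have hp := (formOf_pt (hQ := hQ) (hc := hc) u).2 hu
  have h1 : ap (Mod3.refl hc u hu) u = ap (Mod3.refl hc v hv) u := by rw [h]
  rw [show ap (Mod3.refl hc u hu) u = (formOf Q hQ hc).refl u u from refl_formOf hu u,
    show ap (Mod3.refl hc v hv) u = (formOf Q hQ hc).refl v u from refl_formOf hv u,
    Form.refl_self hp, Form.refl] at h1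
  refine PM.of_smul (t := -(formOf Q hQ hc).B v u) (neg_ne_zero.2 fun h0 => ?_) ?_
  · rw [h0, zero_smul, sub_zero] at h1
    refine hp.ne_zero (funext fun i => ?_)
    have h2 := congrFun h1 i
    simp only [Pi.neg_apply] at h2
    exact (by decide : ∀ a : ZMod 3, -a = a → a = 0) _ h2
  · rw [neg_smul]
    funext i
    have := congrFun h1 i
    simp only [Pi.neg_apply, Pi.sub_apply, Pi.smul_apply] at this ⊢
    exact (by decide : ∀ a b : ZMod 3, -a = a - b → a = -b) _ _ this

include hQ in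
/-- Reflections agreeing modulo the centre agree. -/
theorem pm_of_mk_eq (h5 : 5 ≤ n) {u v : Fin n → ZMod 3} (hu : Q u = c) (hv : Q v = c)
    (h : (QuotientGroup.mk (⟨Mod3.refl hc u hu, Mod3.refl_mem hc hu⟩ : Cfsg.reflectionSubgroup (⇑Q) c) :
      ↥(Cfsg.reflectionSubgroup (⇑Q) c) ⧸ Subgroup.center ↥(Cfsg.reflectionSubgroup (⇑Q) c)) =
      QuotientGroup.mk ⟨Mod3.refl hc v hv, Mod3.refl_mem hc hv⟩) : PM u v := by
  set F := formOf Q hQ hc
  rw [QuotientGroup.eq, Subgroup.mem_center_iff] at h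
  have hz : ∀ {w} (hw : Q w = c), Commute (Mod3.refl hc w hw)
      ((Mod3.refl hc u hu)⁻¹ * Mod3.refl hc v hv) := fun {w} hw =>
    congrArg Subtype.val (h ⟨Mod3.refl hc w hw, Mod3.refl_mem hc hw⟩)
  have huv : Commute (Mod3.refl hc u hu) (Mod3.refl hc v hv) := by
    have := (Commute.refl (Mod3.refl hc u hu)).mul_right (hz hu)
    rwa [mul_inv_cancel_left] at this
  by_cases h12 : PM v u
  · exact h12.symm
  exfalso
  have hB : polar (⇑Q) u v = 0 := (Mod3.commute_refl_iff hc hu hv (fun e => h12 (Or.inl e))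
    (fun e => h12 (Or.inr e))).1 huv
  have pu : F.IsPt u := (formOf_pt (hQ := hQ) (hc := hc) u).2 hu
  have pv : F.IsPt v := (formOf_pt (hQ := hQ) (hc := hc) v).2 hv
  have hB' : F.B u v = 0 := (formOf_zero u v).2 hB
  have hO := (Form.orth_single pv).cons (z := u) (by rw [pu.self]; decide)
    (Form.perp_single.2 (by rw [F.symm]; exact hB'))
  have hdim : Module.finrank (ZMod 3) (Fin n → ZMod 3) = n := Module.finrank_fin_fun _
  obtain ⟨z, hz', hzp⟩ := Form.exists_pt hO (by omega)
  have hO3 := hO.cons (z := z) (by rw [hzp.self]; decide) hz'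
  obtain ⟨hzu, hzv⟩ := Form.perp_cons.1 hz'
  rw [Form.perp_single] at hzv
  obtain ⟨w, hw, hwu, hwv, hne⟩ : ∃ w, F.IsPt w ∧ F.B u w ≠ 0 ∧ F.B v w = 0 ∧ ¬ PM u w := by
    obtain ⟨a, ha, haa⟩ := Form.exists_aniso hO3 (by omega)
    obtain ⟨haz, ha'⟩ := Form.perp_cons.1 ha
    obtain ⟨hau, hav⟩ := Form.perp_cons.1 ha'
    rw [Form.perp_single] at hav
    rcases one_or_neg3 haa with h1 | h1
    · refine ⟨u + z + a, ?_, ?_, ?_, ?_⟩
      · simp only [Form.IsPt, Form.B_add_left, Form.B_add_right, F.symm z u, F.symm a u, F.symm a z, pu.self,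
          hzp.self, hzu, hau, haz, h1]
        decide
      · rw [Form.B_add_right, Form.B_add_right, pu.self, hzu, hau]; decide
      · rw [Form.B_add_right, Form.B_add_right, F.symm v u, hB', hzv, hav]; decide
      · exact fun e => absurd ((Form.pm_B_zero' e).1 (show F.B z u = 0 by rw [F.symm]; exact hzu)) (by
          rw [Form.B_add_right, Form.B_add_right, F.symm z u, hzu, hzp.self, haz]; decide)
    obtain ⟨b, hb, hbb⟩ := Form.exists_aniso (hO3.cons (z := a) (by rw [h1]; decide) ha) (by omega)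
    obtain ⟨hba, hb'⟩ := Form.perp_cons.1 hb
    obtain ⟨hbz, hb''⟩ := Form.perp_cons.1 hb'
    obtain ⟨hbu, hbv⟩ := Form.perp_cons.1 hb''
    rw [Form.perp_single] at hbv
    rcases one_or_neg3 hbb with h2 | h2
    · refine ⟨u + z + b, ?_, ?_, ?_, ?_⟩
      · simp only [Form.IsPt, Form.B_add_left, Form.B_add_right, F.symm z u, F.symm b u, F.symm b z, pu.self,
          hzp.self, hzu, hbu, hbz, h2]
        decide
      · rw [Form.B_add_right, Form.B_add_right, pu.self, hzu, hbu]; decide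
      · rw [Form.B_add_right, Form.B_add_right, F.symm v u, hB', hzv, hbv]; decide
      · exact fun e => absurd ((Form.pm_B_zero' e).1 (show F.B z u = 0 by rw [F.symm]; exact hzu)) (by
          rw [Form.B_add_right, Form.B_add_right, F.symm z u, hzu, hzp.self, hbz]; decide)
    · refine ⟨u + z + a + b, ?_, ?_, ?_, ?_⟩
      · simp only [Form.IsPt, Form.B_add_left, Form.B_add_right, F.symm z u, F.symm a u, F.symm a z, F.symm b u,
          F.symm b z, F.symm b a, pu.self, hzp.self, hzu, hau, haz, hba, hbu, hbz, h1, h2]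
        decide
      · rw [Form.B_add_right, Form.B_add_right, Form.B_add_right, pu.self, hzu, hau, hbu]; decide
      · rw [Form.B_add_right, Form.B_add_right, Form.B_add_right, F.symm v u, hB', hzv, hav, hbv]; decide
      · exact fun e => absurd ((Form.pm_B_zero' e).1 (show F.B z u = 0 by rw [F.symm]; exact hzu)) (by
          rw [Form.B_add_right, Form.B_add_right, Form.B_add_right, F.symm z u, hzu, hzp.self, haz,
            hbz]; decide)
  have hw' := (formOf_pt (hQ := hQ) (hc := hc) w).1 hw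
  have hvw : ¬ PM w v := fun e => by
    have h3 := (Form.pm_B_zero' e).1 hwv
    rw [pv.self] at h3; exact absurd h3 (by decide)
  have c1 : Commute (Mod3.refl hc w hw') (Mod3.refl hc v hv) :=
    (Mod3.commute_refl_iff hc hw' hv (fun e => hvw (Or.inl e.symm)) (fun e => hvw (Or.inr (by rw [e, neg_neg])))).2
      ((formOf_zero w v).1 (by rw [F.symm]; exact hwv))
  have c2 : Commute (Mod3.refl hc w hw') (Mod3.refl hc u hu) := by
    have := c1.mul_right (hz hw').inv_right
    rwa [_root_.mul_inv_rev, inv_inv, mul_inv_cancel_left] at this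
  have huw : ¬ PM u w := hne
  exact hwu ((formOf_zero u w).2 (by
    rw [polar_comm]
    exact (Mod3.commute_refl_iff hc hw' hu (fun e => huw (Or.inl e)) (fun e => huw (Or.inr e))).1 c2))

end

variable {G : Type*} [Group G] {D : Set G}

/-- Recognition by the orthogonality graph. -/
theorem recog (hT : IsThreeTranspositionGroup D) (hz : Subgroup.center G = ⊥)
    (Q : QuadraticForm (ZMod 3) (Fin n → ZMod 3)) (hQ : (QuadraticMap.polarBilin Q).Nondegenerate)
    (h5 : 5 ≤ n) {c : ZMod 3} (hc : c ≠ 0) (φ : G → Fin n → ZMod 3) (hφ : ∀ x ∈ D, Q (φ x) = c)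
    (hinj : ∀ x ∈ D, ∀ y ∈ D, PM (φ x) (φ y) → x = y)
    (hsurj : ∀ v, Q v = c → ∃ x ∈ D, PM (φ x) v)
    (hcomm : ∀ x ∈ D, ∀ y ∈ D, x ≠ y → (Commute x y ↔ polar (⇑Q) (φ x) (φ y) = 0)) :
    FischerClass.IsOThree D n := by
  classical
  set F := formOf Q hQ hc with hFdef
  have hpt : ∀ x ∈ D, F.IsPt (φ x) := fun x hx => (formOf_pt _).2 (hφ x hx)
  have hdim : Module.finrank (ZMod 3) (Fin n → ZMod 3) = n := Module.finrank_fin_fun _
  have hcm : ∀ x ∈ D, ∀ y ∈ D, F.B (φ x) (φ y) = 0 ↔ x ≠ y ∧ Commute x y := by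
    intro x hx y hy
    by_cases e : x = y
    · subst e; rw [(hpt x hx).self]; simp
    · rw [formOf_zero, ← hcomm x hx y hy e]; simp [e]
  -- conjugation is reflection
  have law : ∀ x ∈ D, ∀ y ∈ D, PM (φ (x * y * x⁻¹)) (F.refl (φ x) (φ y)) := by
    intro x hx y hy
    by_cases hxy : Commute x y
    · rw [conj_eq_self_of_commute hxy]
      by_cases e : x = y
      · subst e; rw [Form.refl_self (hpt x hx)]; exact Or.inr (neg_neg _).symm
      · rw [Form.refl_fix ((hcm x hx y hy).2 ⟨e, hxy⟩)]; exact PM.rfl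
    obtain ⟨t, ht⟩ : ∃ t, t = x * y * x⁻¹ := ⟨_, rfl⟩
    rw [← ht]
    have htD : t ∈ D := ht ▸ hT.2.1 x y hy
    have hxt : ¬ Commute x t := fun h => hxy (by
      have h2 := (commute_conj_iff x x y).1
      rw [mul_inv_cancel_right, ← ht] at h2
      exact h2 h)
    have hp := hpt x hx
    have hq := hpt y hy
    have hB : F.B (φ x) (φ y) ≠ 0 := fun e => hxy ((hcm x hx y hy).1 e).2
    have hBt : F.B (φ x) (φ t) ≠ 0 := fun e => hxt ((hcm x hx t htD).1 e).2
    have hN := Form.lineVec_iso hp hq hB fun e => not_commute_ne hxy (hinj y hy x hx e).symm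
    have hM := Form.lineVec_iso hp (hpt t htD) hBt fun e => not_commute_ne hxt (hinj t htD x hx e).symm
    have hO := Form.orth_single hp
    obtain ⟨z₀, hz₀, hz₀', hz₀w⟩ := Form.exists_pt_iso hO hN (Form.perp_single.2 (Form.lineVec_perp hp))
      (by omega)
    obtain ⟨s, hs⟩ := Form.iso_unique hO hN hM.2 (Form.perp_single.2 (Form.lineVec_perp hp))
      (Form.perp_single.2 (Form.lineVec_perp hp)) hz₀' hz₀ hz₀w (fun v hv hvp hvw => by
        rw [Form.perp_single] at hvp
        have hvq : F.B (φ y) v = 0 := by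
          rwa [Form.lineVec, Form.B_add_left, Form.B_smul_left, hvp, mul_zero, add_zero] at hvw
        obtain ⟨u, hu, eu⟩ := hsurj v ((formOf_pt v).1 hv)
        have h1 := (hcm x hx u hu).1 ((Form.pm_B_zero' eu).2 hvp)
        have h2 := (hcm y hy u hu).1 ((Form.pm_B_zero' eu).2 hvq)
        have h3 : Commute t u := ht ▸ (h1.2.mul_left h2.2).mul_left h1.2.inv_left
        have h4 : t ≠ u := fun e => hxt (e ▸ h1.2)
        rw [Form.lineVec, Form.B_add_left, Form.B_smul_left, hvp, mul_zero, add_zero,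
          ← Form.pm_B_zero' eu]
        exact (hcm t htD u hu).2 ⟨h4, h3⟩)
    have hs0 : s ≠ 0 := fun e0 => hM.1 (by rw [hs, e0, zero_smul])
    set p := φ x
    set q := φ y
    set T := φ t with hTdef
    have eT : T = s • F.lineVec p q - F.B p T • p := by
      rw [← hs, Form.lineVec, add_sub_cancel_right]
    rcases (by decide : ∀ a b s : ZMod 3, a ≠ 0 → b ≠ 0 → s ≠ 0 → a = s * b ∨ a = -(s * b))
      (F.B p T) (F.B p q) s hBt hB hs0 with hh | hh
    · exfalso
      have h1 : T = s • q := by rw [eT, hh, Form.lineVec, smul_add, smul_smul, add_sub_cancel_right]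
      have h2 : t = y := hinj t htD y hy (PM.of_smul hs0 h1)
      rw [h2] at ht
      exact hxy (OddCoreLocal.commute_conj_self_iff.1 ht.symm)
    · refine PM.of_smul hs0 ?_
      show T = s • F.refl p q
      rw [eT, hh, Form.refl_line, smul_add, smul_smul, neg_smul, sub_neg_eq_add]
  -- the relation between the two groups
  let Γ := Cfsg.reflectionSubgroup (⇑Q) c
  let R : G → Cfsg.isometryGroup (ZMod 3) (⇑Q) → Prop := fun g m =>
    ∀ x ∈ D, PM (φ (g * x * g⁻¹)) (ap m (φ x))
  have rmul : ∀ {g h m k}, R g m → R h k → R (g * h) (m * k) := by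
    intro g h m k hg hh x hx
    rw [show g * h * x * (g * h)⁻¹ = g * (h * x * h⁻¹) * g⁻¹ by group, ap_mul]
    exact (hg _ (hT.2.1 h x hx)).trans (ap_pm _ (hh x hx))
  have rone : R 1 1 := fun x _ => by rw [one_mul, inv_one, mul_one, ap_one]; exact PM.rfl
  have rinv : ∀ {g m}, R g m → R g⁻¹ m⁻¹ := by
    intro g m hg x hx
    have h := ap_pm m⁻¹ (hg _ (hT.2.1 g⁻¹ x hx))
    rw [← ap_mul, inv_mul_cancel, ap_one, show g * (g⁻¹ * x * g⁻¹⁻¹) * g⁻¹ = x by group] at h
    exact h.symm
  have rgen : ∀ x (hx : x ∈ D), R x (Mod3.refl hc (φ x) (hφ x hx)) := by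
    intro x hx y hy
    exact (law x hx y hy).trans (Or.inl (refl_formOf (hφ x hx) (φ y)).symm)
  have total : ∀ g : G, ∃ m : Γ, R g m.1 := by
    intro g
    have hg : g ∈ Subgroup.closure D := by rw [hT.2.2]; trivial
    induction hg using Subgroup.closure_induction with
    | mem x hx => exact ⟨⟨_, Mod3.refl_mem hc (hφ x hx)⟩, rgen x hx⟩
    | one => exact ⟨1, rone⟩
    | mul a b _ _ ha hb =>
      obtain ⟨m, hm⟩ := ha
      obtain ⟨k, hk⟩ := hb
      exact ⟨m * k, rmul hm hk⟩
    | inv a _ ha =>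
      obtain ⟨m, hm⟩ := ha
      exact ⟨m⁻¹, rinv hm⟩
  have total' : ∀ m ∈ Γ, ∃ g, R g m := by
    intro m hm
    induction hm using Subgroup.closure_induction with
    | mem r hr =>
      obtain ⟨v, hv, rfl⟩ := (Mod3.mem_reflections_iff hc r).1 hr
      obtain ⟨x, hx, hxv⟩ := hsurj v hv
      refine ⟨x, ?_⟩
      rw [← Mod3.refl_congr hc (hφ x hx) hv hxv]
      exact rgen x hx
    | one => exact ⟨1, rone⟩
    | mul a b _ _ ha hb =>
      obtain ⟨g, hg⟩ := ha
      obtain ⟨h, hh⟩ := hb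
      exact ⟨g * h, rmul hg hh⟩
    | inv a _ ha =>
      obtain ⟨g, hg⟩ := ha
      exact ⟨g⁻¹, rinv hg⟩
  have central_iff : ∀ m : Γ, m ∈ Subgroup.center Γ ↔ ∀ x ∈ D, PM (ap m.1 (φ x)) (φ x) := by
    intro m
    have hcj : ∀ x (hx : x ∈ D), m.1 * Mod3.refl hc (φ x) (hφ x hx) * m.1⁻¹ =
        Mod3.refl hc (ap m.1 (φ x)) ((m.1.2 _ (φ x)).trans (hφ x hx)) :=
      fun x hx => Mod3.conj_refl hc _ (hφ x hx)
    refine ⟨fun hm x hx => ?_, fun h => Subgroup.mem_center_iff.2 fun k => Subtype.ext ?_⟩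
    · have h1 := congrArg Subtype.val (Subgroup.mem_center_iff.1 hm ⟨_, Mod3.refl_mem hc (hφ x hx)⟩)
      refine pm_of_refl_eq (hQ := hQ) (hc := hc) _ (hφ x hx) ((hcj x hx).symm.trans ?_)
      rw [mul_inv_eq_iff_eq_mul]
      exact h1.symm
    · have key : ∀ k' ∈ Γ, Commute k' m.1 := by
        intro k' hk
        induction hk using Subgroup.closure_induction with
        | mem r hr =>
          obtain ⟨v, hv, rfl⟩ := (Mod3.mem_reflections_iff hc r).1 hr
          obtain ⟨x, hx, hxv⟩ := hsurj v hv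
          rw [← Mod3.refl_congr hc (hφ x hx) hv hxv]
          have := (hcj x hx).trans (Mod3.refl_congr hc _ (hφ x hx) (h x hx))
          rw [mul_inv_eq_iff_eq_mul] at this
          exact this.symm
        | one => exact Commute.one_left _
        | mul a b _ _ ha hb => exact ha.mul_left hb
        | inv a _ ha => exact ha.inv_left
      exact key k.1 k.2
  have key : ∀ {g} {m m' : Γ}, R g m.1 → R g m'.1 →
      (QuotientGroup.mk m : Γ ⧸ Subgroup.center Γ) = QuotientGroup.mk m' := by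
    intro g m m' hm hm'
    rw [QuotientGroup.eq, central_iff]
    have := rmul (rinv hm) hm'
    intro x hx
    have h := this x hx
    rw [inv_mul_cancel, one_mul, inv_one, mul_one] at h
    exact h.symm
  choose pick hpick using total
  let f : G →* Γ ⧸ Subgroup.center Γ :=
    MonoidHom.mk' (fun g => QuotientGroup.mk (pick g)) fun g h => by
      rw [← QuotientGroup.mk_mul]
      exact key (hpick _) (rmul (hpick g) (hpick h))
  have finj : Function.Injective f := by
    rw [← MonoidHom.ker_eq_bot_iff, eq_bot_iff, ← hz]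
    intro g hg
    rw [MonoidHom.mem_ker] at hg
    have hg' := (central_iff (pick g)).1 ((QuotientGroup.eq_one_iff _).1 hg)
    refine mem_center_of_commute_gen hT.2.2 fun x hx => OddCoreLocal.commute_conj_self_iff.1 ?_
    exact hinj _ (hT.2.1 g x hx) x hx ((hpick g x hx).trans (hg' x hx))
  have fsurj : Function.Surjective f := fun q => by
    obtain ⟨m, rfl⟩ := QuotientGroup.mk_surjective q
    obtain ⟨g, hg⟩ := total' m.1 m.2
    exact ⟨g, key (hpick g) hg⟩
  refine ⟨Q, hQ, c, hc, MulEquiv.ofBijective f ⟨finj, fsurj⟩, Set.Subset.antisymm ?_ ?_⟩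
  · rintro _ ⟨x, hx, rfl⟩
    exact ⟨⟨_, Mod3.refl_mem hc (hφ x hx)⟩, (Mod3.mem_reflections_iff hc _).2 ⟨_, hφ x hx, rfl⟩,
      (key (hpick x) (rgen x hx)).symm⟩
  · rintro _ ⟨m, hm, rfl⟩
    obtain ⟨v, hv, hmv⟩ := (Mod3.mem_reflections_iff hc _).1 hm
    obtain ⟨x, hx, hxv⟩ := hsurj v hv
    refine ⟨x, hx, key (hpick x) ?_⟩
    rw [hmv, ← Mod3.refl_congr hc (hφ x hx) hv hxv]
    exact rgen x hx

end Cfsg.Agent.FischerO3
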