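import Cfsg.Agent.Lib.FischerO3.Perp
import Cfsg.Agent.Lib.FischerO3.Link

set_option autoImplicit false

/-!
Signed vectors for the members not commuting with `d`.
-/

namespace Cfsg.Agent.FischerO3

open Cfsg.Agent.Fischer
open Cfsg.Agent.Fischer.LocalSymThree (nb nb_symm)

variable {G : Type*} [Group G] {D : Set G}
variable {W : Type*} [AddCommGroup W] [Module (ZMod 3) W]
variable {F : Form W} {d : G}

theorem IsV.conj (hT : IsThreeTranspositionGroup D) {A : View D F d} {c y : G} {w : W} (h : IsV A c w)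
    (hy : y ∈ nb D d) : IsV A (y * c * y⁻¹) (F.refl (A.toV y) w) := by
  have hp := A.pt y hy
  refine ⟨⟨fun e => h.1.1 ?_, by rw [Form.refl_form hp, h.1.2]⟩, fun u hu => ?_⟩
  · rw [← Form.refl_refl hp w, e, Form.refl, map_zero, zero_smul, sub_zero]
  · have hu' : y * u * y⁻¹ ∈ nb D d := nb_closed hT hu hy
    have e : y * (y * u * y⁻¹) * y⁻¹ = u := by
      rw [TSet.inv hT.1 hy.1, ← mul_assoc, ← mul_assoc, TSet.sq hT.1 hy.1, one_mul, mul_assoc,
        TSet.sq hT.1 hy.1, mul_one]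
    have h1 := commute_conj_iff y c (y * u * y⁻¹)
    rw [e] at h1
    rw [h1, h.2 _ hu', Form.pm_B_zero' (A.conj u hu y hy), ← Form.refl_form hp, Form.refl_refl hp]

theorem IsV.B_y {A : View D F d} {c y : G} {w : W} (h : IsV A c w) (hy : y ∈ nb D d)
    (hcy : ¬ Commute c y) : F.B w (F.refl (A.toV y) w) = -1 := by
  have hb : F.B (A.toV y) w ≠ 0 := by rw [F.symm]; exact fun e => hcy ((h.2 y hy).2 e)
  rw [Form.refl, Form.B_sub_right, Form.B_smul_right, h.1.2, F.symm w (A.toV y), sq_one3 hb, zero_sub]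

/-- Members commuting with each other: a partner of `d` moves one to the other up to `d`. -/
theorem exists_near (hT : IsThreeTranspositionGroup D) (hd : d ∈ D) {c e : G} (hc : c ∈ D) (he : e ∈ D)
    (hnc : ¬ Commute d c) (hne : ¬ Commute d e) (hce : Commute c e) (h : c ≠ e) :
    ∃ y ∈ nb D d, ¬ Commute c y ∧ e = d * (y * c * y⁻¹) * d⁻¹ := by
  set y := c * e * d * (c * e)⁻¹ with hy
  have hyD : y ∈ D := hT.2.1 _ d hd
  have hdy : Commute d y := TSet.string_commute hT.1 hc hd he hnc hne hce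
  have sc := TSet.sq hT.1 hc
  have se := TSet.sq hT.1 he
  have sd := TSet.sq hT.1 hd
  have ey : y * c * y = e * d * e := by
    rw [hy, mul_inv_rev, TSet.inv hT.1 hc, TSet.inv hT.1 he]
    calc c * e * d * (e * c) * c * (c * e * d * (e * c))
        = c * e * d * e * (c * c) * (c * e) * d * (e * c) := by simp only [mul_assoc]
      _ = c * e * d * e * (e * c) * d * (e * c) := by rw [sc, mul_one, hce.eq]
      _ = c * e * d * (e * e) * c * d * (e * c) := by simp only [mul_assoc]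
      _ = c * e * (d * c * d) * (e * c) := by rw [se, mul_one]; simp only [mul_assoc]
      _ = c * e * (c * d * c) * (e * c) := by rw [TSet.braid hT.1 hd hc hnc]
      _ = (c * e * c) * d * (c * e * c) := by simp only [mul_assoc]
      _ = e * d * e := by rw [hce.eq, mul_assoc e c c, sc, mul_one]
  have he' : e = d * (y * c * y⁻¹) * d⁻¹ := by
    rw [TSet.inv hT.1 hyD, TSet.inv hT.1 hd, ey, ← TSet.braid hT.1 hd he hne]
    simp only [mul_assoc, sd, mul_one]
    rw [← mul_assoc, sd, one_mul]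
  have hyd : y ≠ d := by
    intro e0
    rw [e0, TSet.inv hT.1 hd] at he'
    simp only [mul_assoc, sd, mul_one] at he'
    rw [← mul_assoc, sd, one_mul] at he'
    exact h he'.symm
  refine ⟨y, ⟨hyD, hyd, hdy⟩, fun hcy => hnc ?_, he'⟩
  rw [conj_eq_self_of_commute hcy.symm] at he'
  have h1 : Commute c (d * c * d⁻¹) := he' ▸ hce
  rw [TSet.inv hT.1 hd, TSet.braid hT.1 hd hc hnc] at h1
  have h2 := (commute_conj_iff c c d).1
  rw [TSet.inv hT.1 hc, mul_assoc c c c, sc, mul_one] at h2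
  exact (h2 h1).symm

variable [FiniteDimensional (ZMod 3) W]

theorem B_ne_of_commute (hC : Cx D F) (hd : d ∈ D) {A : View D F d} {c e : G} (hc : c ∈ D) (he : e ∈ D)
    (hnc : ¬ Commute d c) (hne : ¬ Commute d e) (hce : Commute c e) (h : c ≠ e) {wc we : W}
    (hwc : IsV A c wc) (hwe : IsV A e we) : F.B wc we ≠ 0 := by
  obtain ⟨y, hy, hcy, rfl⟩ := exists_near hC.grp hd hc he hnc hne hce h
  have hp := IsV.unique hC ((hwc.conj hC.grp hy).dconj) hwe
  rw [Ne, ← Form.pm_B_zero' hp, hwc.B_y hy hcy]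
  decide

/-- A member whose vector is not orthogonal to that of `c` is a move of `c`. -/
theorem exists_y (hC : Cx D F) (hd : d ∈ D) {A : View D F d} {c e : G} (hc : c ∈ D) (he : e ∈ D)
    (hne : ¬ Commute d e) {wc we : W} (hwc : IsV A c wc) (hwe : IsV A e we) (hnc : ¬ Commute d c)
    (hB : F.B wc we ≠ 0) : ∃ y ∈ nb D d, ¬ Commute c y ∧ PM we (F.refl (A.toV y) wc) ∧
      (e = y * c * y⁻¹ ∨ e = d * (y * c * y⁻¹) * d⁻¹) := by
  set w' := (-F.B wc we) • we with hw'
  have h1 : F.B wc w' = -1 := by rw [hw', Form.B_smul_right, neg_mul, sq_one3 hB]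
  have hi : F.B w' w' = 0 := by rw [hw', Form.self_smul, hwe.1.2, mul_zero]
  have hv : F.IsPt (w' - wc) := by
    rw [Form.IsPt, Form.B_sub_left, Form.B_sub_right, Form.B_sub_right, hi, hwc.1.2, F.symm w' wc, h1]
    decide
  obtain ⟨y, hy, ey⟩ := A.surj _ hv
  have hpm : PM we (F.refl (A.toV y) wc) := by
    have h2 : F.refl (A.toV y) wc = w' := by
      rw [Form.pm_refl ey, Form.refl, Form.B_sub_left, F.symm w' wc, h1, hwc.1.2, sub_zero, neg_smul, one_smul]
      abel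
    rw [h2, hw']
    exact (PM.of_smul (neg_ne_zero.2 hB) rfl).symm
  have hcy : ¬ Commute c y := fun h => by
    have h0 := (Form.pm_B_zero' ey).1 ((hwc.2 y hy).1 h)
    rw [Form.B_sub_right, h1, hwc.1.2] at h0
    exact absurd h0 (by decide)
  have hz : ¬ Commute d (y * c * y⁻¹) := fun h => by
    rw [← conj_eq_self_of_commute hy.2.2.symm, commute_conj_iff] at h
    exact hnc h
  exact ⟨y, hy, hcy, hpm, IsV.pair hC hd (hC.grp.2.1 y c hc) hz he hne (hwc.conj hC.grp hy) hwe hpm⟩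

theorem move_noncommute (hT : IsThreeTranspositionGroup D) {c y : G} (hc : c ∈ D) (hy : y ∈ D)
    (hcy : ¬ Commute c y) : ¬ Commute c (y * c * y⁻¹) := by
  intro h
  rw [TSet.inv hT.1 hy, ← TSet.braid hT.1 hc hy hcy] at h
  have h2 := (commute_conj_iff c c y).1
  rw [TSet.inv hT.1 hc, mul_assoc c c c, TSet.sq hT.1 hc, mul_one] at h2
  exact hcy (h2 h)

theorem move_commute (hT : IsThreeTranspositionGroup D) (hd : d ∈ D) {c y : G} (hc : c ∈ D)
    (hy : y ∈ nb D d) (hnc : ¬ Commute d c) (hcy : ¬ Commute c y) :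
    Commute c (d * (y * c * y⁻¹) * d⁻¹) := by
  have := TSet.string_commute hT.1 hd hc hy.1 (fun h => hnc h.symm) hcy hy.2.2
  rwa [mul_inv_rev, show d * y * c * (y⁻¹ * d⁻¹) = d * (y * c * y⁻¹) * d⁻¹ by group] at this

omit [FiniteDimensional (ZMod 3) W] in
theorem not_commute_dconj (hd : d ∈ D) {e : G} (hne : ¬ Commute d e) : ¬ Commute d (d * e * d⁻¹) := by
  intro h
  have := (commute_conj_iff d d e).1
  rw [mul_inv_cancel_right] at this
  exact hne (this h)

theorem dconj_dconj (hT : IsThreeTranspositionGroup D) (hd : d ∈ D) (e : G) :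
    d * (d * e * d⁻¹) * d⁻¹ = e := by
  rw [TSet.inv hT.1 hd, ← mul_assoc, ← mul_assoc, TSet.sq hT.1 hd, one_mul, mul_assoc, TSet.sq hT.1 hd,
    mul_one]

theorem commute_xor (hC : Cx D F) (hd : d ∈ D) {A : View D F d} {c e : G} (hc : c ∈ D) (he : e ∈ D)
    (hnc : ¬ Commute d c) (hne : ¬ Commute d e) {wc we : W} (hwc : IsV A c wc) (hwe : IsV A e we)
    (hB : F.B wc we ≠ 0) : Commute c (d * e * d⁻¹) ↔ ¬ Commute c e := by
  obtain ⟨y, hy, hcy, -, rfl | rfl⟩ := exists_y hC hd hc he hne hwc hwe hnc hB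
  · exact ⟨fun _ => move_noncommute hC.grp hc hy.1 hcy, fun _ => move_commute hC.grp hd hc hy hnc hcy⟩
  · rw [dconj_dconj hC.grp hd]
    exact ⟨fun h => absurd h (move_noncommute hC.grp hc hy.1 hcy),
      fun h => absurd (move_commute hC.grp hd hc hy hnc hcy) h⟩

open Classical in
/-- The sign of an edge. -/
noncomputable def tau (F : Form W) (a b : G) (wa wb : W) : ZMod 3 :=
  if Commute a b then F.B wa wb else -F.B wa wb

omit [FiniteDimensional (ZMod 3) W] in
theorem tau_symm (a b : G) (wa wb : W) : tau F a b wa wb = tau F b a wb wa := by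
  unfold tau
  rw [F.symm wa wb]
  by_cases h : Commute a b
  · rw [if_pos h, if_pos h.symm]
  · rw [if_neg h, if_neg fun e => h e.symm]

omit [FiniteDimensional (ZMod 3) W] in
theorem tau_ne {a b : G} {wa wb : W} (h : F.B wa wb ≠ 0) : tau F a b wa wb ≠ 0 := by
  unfold tau
  split <;> simpa using h

theorem tau_dconj (hC : Cx D F) (hd : d ∈ D) {A : View D F d} {a b : G} (ha : a ∈ D) (hb : b ∈ D)
    (hna : ¬ Commute d a) (hnb : ¬ Commute d b) {wa wb : W} (hwa : IsV A a wa) (hwb : IsV A b wb)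
    (hB : F.B wa wb ≠ 0) : tau F a (d * b * d⁻¹) wa wb = -tau F a b wa wb := by
  unfold tau
  by_cases h : Commute a b
  · rw [if_pos h, if_neg fun e => (commute_xor hC hd ha hb hna hnb hwa hwb hB).1 e h]
  · rw [if_neg h, if_pos ((commute_xor hC hd ha hb hna hnb hwa hwb hB).2 h), neg_neg]

/-- Two moves of one member commute exactly as the movers. -/
theorem tri_moved (hC : Cx D F) (hd : d ∈ D) {A : View D F d} {c b e : G} (hc : c ∈ D) (hb : b ∈ D)
    (he : e ∈ D) (hnc : ¬ Commute d c) (hnb : ¬ Commute d b) (hne : ¬ Commute d e) {wc wb we : W}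
    (hwc : IsV A c wc) (hwb : IsV A b wb) (hwe : IsV A e we) (h1 : F.B wc wb ≠ 0) (h2 : F.B wc we ≠ 0)
    (h3 : F.B wb we ≠ 0) (hcb : ¬ Commute c b) (hce : ¬ Commute c e) :
    tau F c b wc wb * tau F b e wb we * tau F e c we wc = 1 := by
  obtain ⟨y, hy, hcy, py, hby⟩ := exists_y hC hd hc hb hnb hwc hwb hnc h1
  obtain ⟨z, hz, hcz, pz, hez⟩ := exists_y hC hd hc he hne hwc hwe hnc h2
  have hb' : b = y * c * y⁻¹ :=
    hby.resolve_right fun e0 => hcb (e0 ▸ move_commute hC.grp hd hc hy hnc hcy)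
  have he' : e = z * c * z⁻¹ :=
    hez.resolve_right fun e0 => hce (e0 ▸ move_commute hC.grp hd hc hz hnc hcz)
  have hcomm : Commute b e ↔ Commute y z := by
    rw [hb', he', TSet.inv hC.grp.1 hy.1, TSet.inv hC.grp.1 hz.1,
      ← TSet.braid hC.grp.1 hc hy.1 hcy, ← TSet.braid hC.grp.1 hc hz.1 hcz]
    have := commute_conj_iff c y z
    rwa [TSet.inv hC.grp.1 hc] at this
  set r := F.refl (A.toV y) wc with hr
  set r' := F.refl (A.toV z) wc with hr'
  have q1 : F.B wc r = -1 := hwc.B_y hy hcy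
  have q2 : F.B wc r' = -1 := hwc.B_y hz hcz
  have ha : F.B (A.toV y) wc ≠ 0 := by rw [F.symm]; exact fun e0 => hcy ((hwc.2 y hy).2 e0)
  have hbz : F.B (A.toV z) wc ≠ 0 := by rw [F.symm]; exact fun e0 => hcz ((hwc.2 z hz).2 e0)
  have key : (Commute y z → F.B r r' = 1) ∧ (¬ Commute y z → F.B r r' = -1) := by
    have h4 : F.B r r' ≠ 0 := fun e0 => h3 ((Form.pm_B_zero py).2 ((Form.pm_B_zero' pz).2 e0))
    have h5 : y ≠ z := by
      intro e0
      subst e0
      exact h4 (by rw [Form.refl_form (A.pt y hy), hwc.1.2])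
    have h6 : F.B r r' = 1 + F.B (A.toV y) wc * F.B (A.toV z) wc * F.B (A.toV y) (A.toV z) := by
      rw [hr, hr', Form.refl, Form.refl, Form.B_sub_left, Form.B_sub_right, Form.B_sub_right,
        Form.B_smul_left, Form.B_smul_left, Form.B_smul_right, Form.B_smul_right, hwc.1.2,
        F.symm wc (A.toV z), sq_one3 ha, sq_one3 hbz,
        show (0 : ZMod 3) - 1 - (1 - F.B (A.toV y) wc * (F.B (A.toV z) wc * F.B (A.toV y) (A.toV z))) =
          -2 + F.B (A.toV y) wc * (F.B (A.toV z) wc * F.B (A.toV y) (A.toV z)) by ring,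
        show (-2 : ZMod 3) = 1 from by decide, ← mul_assoc]
    refine ⟨fun hyz => ?_, fun hyz => ?_⟩
    · rw [h6, (A.B_zero_iff hy hz).2 ⟨h5, hyz⟩, mul_zero, add_zero]
    · have hg := A.not_commute_B hy hz hyz
      rw [h6] at h4 ⊢
      have hm := mul_ne_zero (mul_ne_zero ha hbz) hg
      revert h4 hm
      generalize F.B (A.toV y) wc * F.B (A.toV z) wc * F.B (A.toV y) (A.toV z) = t
      revert t; decide
  have sgn : ∀ {u v : W}, PM u v → ∃ s : ZMod 3, s * s = 1 ∧ u = s • v := by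
    intro u v h
    rcases h with rfl | rfl
    · exact ⟨1, one_mul 1, (one_smul _ _).symm⟩
    · exact ⟨-1, by decide, by rw [neg_smul, one_smul]⟩
  obtain ⟨s, hs, rfl⟩ := sgn py
  obtain ⟨t, ht, rfl⟩ := sgn pz
  unfold tau
  rw [if_neg hcb, if_neg (show ¬ Commute e c from fun e0 => hce e0.symm), Form.B_smul_right, q1, Form.B_smul_left t, F.symm r' wc, q2]
  by_cases hbe : Commute b e
  · rw [if_pos hbe, Form.B_smul_left, Form.B_smul_right, key.1 (hcomm.1 hbe)]
    linear_combination hs * (t * t) + ht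
  · rw [if_neg hbe, Form.B_smul_left, Form.B_smul_right, key.2 fun e0 => hbe (hcomm.2 e0)]
    linear_combination hs * (t * t) + ht

/-- The signs of the edges of a triangle multiply to one. -/
theorem tri (hC : Cx D F) (hd : d ∈ D) {A : View D F d} {c b e : G} (hc : c ∈ D) (hb : b ∈ D)
    (he : e ∈ D) (hnc : ¬ Commute d c) (hnb : ¬ Commute d b) (hne : ¬ Commute d e) {wc wb we : W}
    (hwc : IsV A c wc) (hwb : IsV A b wb) (hwe : IsV A e we) (h1 : F.B wc wb ≠ 0) (h2 : F.B wc we ≠ 0)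
    (h3 : F.B wb we ≠ 0) : tau F c b wc wb * tau F b e wb we * tau F e c we wc = 1 := by
  have hb' := hC.grp.2.1 d b hb
  have he' := hC.grp.2.1 d e he
  have hnb' := not_commute_dconj hd hnb
  have hne' := not_commute_dconj hd hne
  have h3' : F.B we wb ≠ 0 := by rw [F.symm]; exact h3
  have fb : Commute c b → ¬ Commute c (d * b * d⁻¹) := fun hh e0 =>
    (commute_xor hC hd hc hb hnc hnb hwc hwb h1).1 e0 hh
  have fe : Commute c e → ¬ Commute c (d * e * d⁻¹) := fun hh e0 =>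
    (commute_xor hC hd hc he hnc hne hwc hwe h2).1 e0 hh
  have t1 : tau F c (d * b * d⁻¹) wc wb = -tau F c b wc wb := tau_dconj hC hd hc hb hnc hnb hwc hwb h1
  have t2 : tau F (d * e * d⁻¹) c we wc = -tau F e c we wc := by
    rw [tau_symm, tau_dconj hC hd hc he hnc hne hwc hwe h2, tau_symm]
  have t3 : tau F b (d * e * d⁻¹) wb we = -tau F b e wb we := tau_dconj hC hd hb he hnb hne hwb hwe h3
  have t4 : ∀ {x}, x ∈ D → ¬ Commute d x → IsV A x we →
      tau F (d * b * d⁻¹) x wb we = -tau F b x wb we := fun hx hnx hwx => by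
    rw [tau_symm, tau_dconj hC hd hx hb hnx hnb hwx hwb h3', tau_symm]
  by_cases hcb : Commute c b <;> by_cases hce : Commute c e
  · have := tri_moved hC hd hc hb' he' hnc hnb' hne' hwc hwb.dconj hwe.dconj h1 h2 h3 (fb hcb) (fe hce)
    rw [t4 he' hne' hwe.dconj, t1, t2, t3] at this
    linear_combination this
  · have := tri_moved hC hd hc hb' he hnc hnb' hne hwc hwb.dconj hwe h1 h2 h3 (fb hcb) hce
    rw [t4 he hne hwe, t1] at this
    linear_combination this
  · have := tri_moved hC hd hc hb he' hnc hnb hne' hwc hwb hwe.dconj h1 h2 h3 hcb (fe hce)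
    rw [t3, t2] at this
    linear_combination this
  · exact tri_moved hC hd hc hb he hnc hnb hne hwc hwb hwe h1 h2 h3 hcb hce

/-- Signed vectors: two members commute exactly when their vectors have product one. -/
theorem exists_signed (hC : Cx D F) (hd : d ∈ D) (A : View D F d) :
    ∃ σ : G → W, (∀ c ∈ D, ¬ Commute d c → IsV A c (σ c)) ∧
      (∀ c ∈ D, ∀ e ∈ D, ¬ Commute d c → ¬ Commute d e →
        ((c ≠ e ∧ Commute c e) ↔ F.B (σ c) (σ e) = 1)) ∧
      (∀ c ∈ D, ∀ e ∈ D, ¬ Commute d c → ¬ Commute d e → σ c = σ e → c = e) ∧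
      (∀ u, F.IsIso u → ∃ c ∈ D, ¬ Commute d c ∧ σ c = u) := by
  classical
  by_cases hM : ∃ c₀ ∈ D, ¬ Commute d c₀
  swap
  · push Not at hM
    exact ⟨fun _ => 0, fun c hc h => absurd (hM c hc) h, fun c hc _ _ h => absurd (hM c hc) h,
      fun c hc _ _ h => absurd (hM c hc) h, fun u hu => by
        obtain ⟨c, hc, hnc, -⟩ := exists_of_iso hC hd A hu
        exact absurd (hM c hc) hnc⟩
  obtain ⟨c₀, hc₀, hn₀⟩ := hM
  let M : Set G := {c | c ∈ D ∧ ¬ Commute d c}
  have hwv' : ∀ c : G, ∃ w, c ∈ M → IsV A c w := fun c => by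
    by_cases h : c ∈ M
    · obtain ⟨w, hw⟩ := exists_isV hC hd A h.1 h.2
      exact ⟨w, fun _ => hw⟩
    · exact ⟨0, fun h' => absurd h' h⟩
  choose wv hwv using hwv'
  let T : G → G → ZMod 3 := fun a b => tau F a b (wv a) (wv b)
  let E : G → G → Prop := fun a b => F.B (wv a) (wv b) ≠ 0
  have h0 : c₀ ∈ M := ⟨hc₀, hn₀⟩
  have Esymm : ∀ {a b}, E a b → E b a := fun {a b} h => by
    show F.B _ _ ≠ 0
    rw [F.symm]; exact h
  have Tsq : ∀ {a b}, E a b → T a b * T a b = 1 := fun h => sq_one3 (tau_ne h)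
  have Tsymm : ∀ a b, T a b = T b a := fun a b => tau_symm a b _ _
  have Ttri : ∀ {a b e}, a ∈ M → b ∈ M → e ∈ M → E a b → E a e → E b e → T a b * T b e = T a e := by
    intro a b e ha hb he h1 h2 h3
    have h : T a b * T b e * T e a = 1 :=
      tri hC hd ha.1 hb.1 he.1 ha.2 hb.2 he.2 (hwv a ha) (hwv b hb) (hwv e he) h1 h2 h3
    rw [Tsymm e a] at h
    linear_combination h * T a e - (T a b * T b e) * Tsq h2
  have real : ∀ {u}, F.IsIso u → ∃ g ∈ M, PM (wv g) u := fun {u} hu => by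
    obtain ⟨g, hg, hng, hgu⟩ := exists_of_iso hC hd A hu
    exact ⟨g, ⟨hg, hng⟩, IsV.unique hC (hwv g ⟨hg, hng⟩) hgu⟩
  have mid : ∀ c : G, ∃ g, c ∈ M → g ∈ M ∧ E c₀ g ∧ E g c := fun c => by
    by_cases h : c ∈ M
    · obtain ⟨u, hu, h1, h2⟩ := Form.exists_link_two hC.dim (hwv c₀ h0).1 (hwv c h).1
      obtain ⟨g, hg, eg⟩ := real hu
      refine ⟨g, fun _ => ⟨hg, Esymm ?_, ?_⟩⟩
      · exact fun e => h1 ((Form.pm_B_zero eg).1 e)
      · exact fun e => h2 ((Form.pm_B_zero eg).1 e)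
    · exact ⟨c, fun h' => absurd h' h⟩
  choose m hm using mid
  let s : G → ZMod 3 := fun c => T c₀ (m c) * T (m c) c
  have indep : ∀ {c g}, c ∈ M → g ∈ M → E c₀ g → E g c → s c = T c₀ g * T g c := by
    intro c g hc hg h1 h2
    obtain ⟨hu, u1, u2⟩ := hm c hc
    show T c₀ (m c) * T (m c) c = _
    by_cases hcc : E c₀ c
    · rw [Ttri h0 hu hc u1 hcc u2, Ttri h0 hg hc h1 hcc h2]
    have link : ∀ {a b}, a ∈ M → b ∈ M → E c₀ a → E a c → E c₀ b → E b c → E a b →
        T c₀ a * T a c = T c₀ b * T b c := by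
      intro a b ha hb a1 a2 b1 b2 hab
      rw [← Ttri h0 hb ha b1 a1 (Esymm hab), ← Ttri hb ha hc (Esymm hab) b2 a2]
      ring
    by_cases hgu : E (m c) g
    · exact link hu hg u1 u2 h1 h2 hgu
    · obtain ⟨v, hv, v0, vc, vu, vg⟩ := Form.exists_link_four hC.dim (hwv c₀ h0).1 (hwv _ hu).1 (hwv g hg).1
        (not_not.1 hcc) u1 u2 h1 (not_not.1 hgu)
      obtain ⟨q, hq, eq⟩ := real hv
      have q0 : E c₀ q := Esymm fun e => v0 ((Form.pm_B_zero eq).1 e)
      have qc : E q c := fun e => vc ((Form.pm_B_zero eq).1 e)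
      have qu : E (m c) q := Esymm fun e => vu ((Form.pm_B_zero eq).1 e)
      have qg : E q g := fun e => vg ((Form.pm_B_zero eq).1 e)
      exact (link hu hq u1 u2 q0 qc qu).trans (link hq hg q0 qc h1 h2 qg)
  have s_ne : ∀ {c}, c ∈ M → s c * s c = 1 := fun {c} hc => by
    obtain ⟨-, u1, u2⟩ := hm c hc
    show T c₀ (m c) * T (m c) c * (T c₀ (m c) * T (m c) c) = 1
    linear_combination Tsq u1 * (T (m c) c * T (m c) c) + Tsq u2
  have edge : ∀ {c e}, c ∈ M → e ∈ M → E c e → s c * s e = T c e := by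
    intro c e hc he hce
    have viaA : ∀ {a b}, a ∈ M → b ∈ M → E c₀ a → E a b → s a * s b = T a b := by
      intro a b ha hb h1 h2
      obtain ⟨hu, u1, u2⟩ := hm a ha
      have ea : s a = T c₀ a := Ttri h0 hu ha u1 h1 u2
      rw [ea, indep hb ha h1 h2]
      linear_combination Tsq h1 * T a b
    by_cases h1 : E c₀ c
    · exact viaA hc he h1 hce
    by_cases h2 : E c₀ e
    · rw [mul_comm, viaA he hc h2 (Esymm hce), Tsymm]
    obtain ⟨u, hu, u0, uc, ue⟩ :=
      Form.exists_link_three (hwv c₀ h0).1 (hwv c hc).1 (hwv e he).1 hce (not_not.1 h1) (not_not.1 h2)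
    obtain ⟨g, hg, eg⟩ := real hu
    have g0 : E c₀ g := Esymm fun x => u0 ((Form.pm_B_zero eg).1 x)
    have gc : E g c := fun x => uc ((Form.pm_B_zero eg).1 x)
    have ge : E g e := fun x => ue ((Form.pm_B_zero eg).1 x)
    rw [indep hc hg g0 gc, indep he hg g0 ge, ← Ttri hc hg he (Esymm gc) hce ge, Tsymm c g]
    linear_combination Tsq g0 * (T g c * T g e)
  let σ : G → W := fun c => s c • wv c
  have hσ : ∀ {c}, c ∈ M → IsV A c (σ c) := fun {c} hc =>
    (hwv c hc).pm (PM.of_smul (fun e => by simpa [e] using s_ne hc) rfl)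
  have hBσ : ∀ c e, F.B (σ c) (σ e) = s c * s e * F.B (wv c) (wv e) := fun c e => by
    show F.B (s c • wv c) (s e • wv e) = _
    rw [Form.B_smul_left, Form.B_smul_right]
    ring
  have comm : ∀ c ∈ D, ∀ e ∈ D, ¬ Commute d c → ¬ Commute d e →
      ((c ≠ e ∧ Commute c e) ↔ F.B (σ c) (σ e) = 1) := by
    intro c hc e he hnc hne
    have hcM : c ∈ M := ⟨hc, hnc⟩
    have heM : e ∈ M := ⟨he, hne⟩
    rw [hBσ]
    by_cases hB : F.B (wv c) (wv e) = 0
    · rw [hB, mul_zero]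
      exact ⟨fun h => absurd hB (B_ne_of_commute hC hd hc he hnc hne h.2 h.1 (hwv c hcM) (hwv e heM)),
        fun h => absurd h zero_ne_one⟩
    · have hce : c ≠ e := fun e0 => hB (e0 ▸ (hwv c hcM).1.2)
      rw [edge hcM heM hB]
      show _ ↔ tau F c e (wv c) (wv e) * F.B (wv c) (wv e) = 1
      unfold tau
      by_cases hcm : Commute c e
      · rw [if_pos hcm, sq_one3 hB]; exact ⟨fun _ => rfl, fun _ => ⟨hce, hcm⟩⟩
      · rw [if_neg hcm, neg_mul, sq_one3 hB]
        exact ⟨fun h => absurd h.2 hcm, fun h => absurd h (by decide)⟩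
  have inj : ∀ c ∈ D, ∀ e ∈ D, ¬ Commute d c → ¬ Commute d e → σ c = σ e → c = e := by
    intro c hc e he hnc hne h
    rcases IsV.pair hC hd hc hnc he hne (hσ ⟨hc, hnc⟩) (hσ ⟨he, hne⟩) (Or.inl h.symm) with h' | h'
    · exact h'.symm
    exfalso
    subst h'
    obtain ⟨u, hu, -, uc⟩ := Form.exists_link_two hC.dim (hσ ⟨hc, hnc⟩).1 (hσ ⟨hc, hnc⟩).1
    obtain ⟨g, hg, eg⟩ := real hu
    have hB : F.B (σ g) (σ c) ≠ 0 := fun e0 => by
      have e1 : PM (σ g) u := (IsV.unique hC (hσ hg) (hwv g hg)).trans eg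
      exact uc ((Form.pm_B_zero e1).1 e0)
    have hgc : g ≠ c := fun e0 => hB (e0 ▸ (hσ ⟨hc, hnc⟩).1.2)
    have hgd : g ≠ d * c * d⁻¹ := fun e0 => hB (by rw [h, ← e0]; exact (hσ hg).1.2)
    have x := commute_xor hC hd hg.1 hc hg.2 hnc (hσ hg) (hσ ⟨hc, hnc⟩) hB
    have a1 := comm g hg.1 c hc hg.2 hnc
    have a2 := comm g hg.1 _ he hg.2 hne
    rw [← h] at a2
    by_cases hgcc : Commute g c
    · exact (x.1 (a2.2 (a1.1 ⟨hgc, hgcc⟩)).2) hgcc
    · exact hgcc (a1.2 (a2.1 ⟨hgd, x.2 hgcc⟩)).2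
  refine ⟨σ, fun c hc h => hσ ⟨hc, h⟩, comm, inj, fun u hu => ?_⟩
  obtain ⟨c, hc, hnc, hw⟩ := exists_of_iso hC hd A hu
  rcases IsV.unique hC (hσ ⟨hc, hnc⟩) hw with h | h
  · exact ⟨c, hc, hnc, h⟩
  · have hc' := hC.grp.2.1 d c hc
    have hnc' := not_commute_dconj hd hnc
    rcases IsV.unique hC (hσ ⟨hc', hnc'⟩) hw.dconj with h' | h'
    · exact ⟨_, hc', hnc', h'⟩
    · exfalso
      have := inj c hc _ hc' hnc hnc' (h.trans h'.symm)
      exact hnc (OddCoreLocal.commute_conj_self_iff.1 this.symm)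

end Cfsg.Agent.FischerO3
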