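import Cfsg.Agent.Lib.FischerO3.Recog

set_option autoImplicit false

/-!
The labellings coming from a neighbour quotient that is a projective reflection group.
-/

namespace Cfsg.Agent.FischerO3

open Cfsg.Agent.Fischer Cfsg.Agent.Fischer.Factor Cfsg.Agent.FischerClass
open Cfsg.Agent.Fischer.LocalSymThree (nb nb_symm)
open Matrix QuadraticMap

variable {G : Type*} [Group G] {D : Set G}
variable {n : ℕ} {Q : QuadraticForm (ZMod 3) (Fin n → ZMod 3)}

/-- A labelling at one member gives one at a conjugate. -/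
noncomputable def View.move (hT : IsThreeTranspositionGroup D) {F : Form (Fin n → ZMod 3)} {d : G}
    (A : View D F d) (g : G) : View D F (g * d * g⁻¹) := by
  have back : ∀ x ∈ nb D (g * d * g⁻¹), g⁻¹ * x * g⁻¹⁻¹ ∈ nb D d := fun x hx => by
    simpa only [show g⁻¹ * (g * d * g⁻¹) * g⁻¹⁻¹ = d by group] using nb_conj_mem hT g⁻¹ hx
  refine
    { toV := fun x => A.toV (g⁻¹ * x * g⁻¹⁻¹)
      pt := fun x hx => A.pt _ (back x hx)
      inj := fun x hx y hy h => mul_left_cancel (mul_right_cancel (A.inj _ (back x hx) _ (back y hy) h))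
      surj := fun v hv => ?_
      comm := fun x hx y hy hne => ?_
      conj := fun x hx y hy => ?_ }
  · obtain ⟨x, hx, hp⟩ := A.surj v hv
    exact ⟨g * x * g⁻¹, nb_conj_mem hT g hx, by
      rwa [show g⁻¹ * (g * x * g⁻¹) * g⁻¹⁻¹ = x by group]⟩
  · rw [← commute_conj_iff g⁻¹ x y]
    exact A.comm _ (back x hx) _ (back y hy) fun e => hne (mul_left_cancel (mul_right_cancel e))
  · have h := A.conj _ (back x hx) _ (back y hy)
    rwa [show g⁻¹ * (y * x * y⁻¹) * g⁻¹⁻¹ =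
      (g⁻¹ * y * g⁻¹⁻¹) * (g⁻¹ * x * g⁻¹⁻¹) * (g⁻¹ * y * g⁻¹⁻¹)⁻¹ by group]

variable [Finite G]

/-- The labelling at a member whose neighbour quotient is a projective reflection group. -/
theorem exists_view (hS : Std D) {d : G} (hd : d ∈ D) (hQ : (QuadraticMap.polarBilin Q).Nondegenerate)
    (h5 : 5 ≤ n) {c : ZMod 3} (hc : c ≠ 0)
    (e : Fischer.Factor.Q D d ≃* ↥(Cfsg.reflectionSubgroup (⇑Q) c) ⧸ Subgroup.center ↥(Cfsg.reflectionSubgroup (⇑Q) c))
    (he : e '' img D d = (QuotientGroup.mk : ↥(Cfsg.reflectionSubgroup (⇑Q) c) → _) ''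
      {g : ↥(Cfsg.reflectionSubgroup (⇑Q) c) |
        (g : ↥(Cfsg.isometryGroup (ZMod 3) (⇑Q))) ∈ Cfsg.reflectionsOfNorm (⇑Q) c}) :
    Nonempty (View D (formOf Q hQ hc) d) := by
  classical
  let rv : ∀ v, Q v = c →
      ↥(Cfsg.reflectionSubgroup (⇑Q) c) ⧸ Subgroup.center ↥(Cfsg.reflectionSubgroup (⇑Q) c) :=
    fun v hv => QuotientGroup.mk ⟨Mod3.refl hc v hv, Mod3.refl_mem hc hv⟩
  let q : ∀ x, x ∈ nb D d → Fischer.Factor.Q D d := fun x hx => QuotientGroup.mk ⟨x, nb_subset hx⟩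
  have pick : ∀ x, ∃ v, ∀ hx : x ∈ nb D d, ∃ hv : Q v = c, e (q x hx) = rv v hv := fun x => by
    by_cases hx : x ∈ nb D d
    · have h : e (q x hx) ∈ e '' img D d := ⟨_, ⟨⟨x, nb_subset hx⟩, hx, rfl⟩, rfl⟩
      rw [he] at h
      obtain ⟨⟨m, hm⟩, hm', hme⟩ := h
      obtain ⟨v, hv, rfl⟩ := (Mod3.mem_reflections_iff hc m).1 hm'
      exact ⟨v, fun _ => ⟨hv, hme.symm⟩⟩
    · exact ⟨0, fun h => absurd h hx⟩
  choose V hV using pick
  have hT := hS.tg
  have rv_congr : ∀ {u v} (hu : Q u = c) (hv : Q v = c), PM u v → rv u hu = rv v hv := fun hu hv h => by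
    show QuotientGroup.mk _ = QuotientGroup.mk _
    simp only [Mod3.refl_congr hc hu hv h]
  have rv_conj : ∀ {u v} (hu : Q u = c) (hv : Q v = c), ∃ hw : Q ((formOf Q hQ hc).refl u v) = c,
      rv u hu * rv v hv * (rv u hu)⁻¹ = rv _ hw := fun {u v} hu hv => by
    have hw : Q ((formOf Q hQ hc).refl u v) = c := (formOf_pt (hQ := hQ) (hc := hc) _).1 (by
      rw [Form.IsPt, Form.refl_form ((formOf_pt _).2 hu)]; exact (formOf_pt _).2 hv)
    refine ⟨hw, ?_⟩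
    show QuotientGroup.mk _ * QuotientGroup.mk _ * (QuotientGroup.mk _)⁻¹ = QuotientGroup.mk _
    rw [← QuotientGroup.mk_inv, ← QuotientGroup.mk_mul, ← QuotientGroup.mk_mul]
    refine congrArg QuotientGroup.mk (Subtype.ext ((Mod3.conj_refl hc _ hv).trans ?_))
    exact Mod3.refl_congr hc _ hw (Or.inl (refl_formOf hu v))
  refine ⟨⟨V, fun x hx => (formOf_pt _).2 (hV x hx).1, ?_, ?_, ?_, ?_⟩⟩
  · intro x hx y hy h
    obtain ⟨hu, eu⟩ := hV x hx
    obtain ⟨hv, ev⟩ := hV y hy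
    have := e.injective (eu.trans ((rv_congr hu hv h).trans ev.symm))
    exact congrArg Subtype.val (img_inj hT hS.trans hS.twinFree hd (x := ⟨x, nb_subset hx⟩)
      (y := ⟨y, nb_subset hy⟩) hx hy this)
  · intro v hv
    have hv' := (formOf_pt v).1 hv
    have h : rv v hv' ∈ e '' img D d := by
      rw [he]
      exact ⟨_, (Mod3.mem_reflections_iff hc _).2 ⟨v, hv', rfl⟩, rfl⟩
    obtain ⟨_, ⟨⟨x, hxm⟩, hx, rfl⟩, hxe⟩ := h
    obtain ⟨hu, eu⟩ := hV x hx
    exact ⟨x, hx, pm_of_mk_eq (hQ := hQ) (hc := hc) h5 hu hv' (eu.symm.trans hxe)⟩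
  · intro x hx y hy hne
    obtain ⟨hu, eu⟩ := hV x hx
    obtain ⟨hv, ev⟩ := hV y hy
    rw [← mk_commute_iff hT.1 (d := d) (x := ⟨x, nb_subset hx⟩) (y := ⟨y, nb_subset hy⟩) hx.1 hy.1,
      formOf_zero]
    have hmap : Commute (q x hx) (q y hy) ↔ Commute (e (q x hx)) (e (q y hy)) :=
      ⟨fun h => h.map e, fun h => by simpa using h.map e.symm⟩
    refine hmap.trans ?_
    rw [eu, ev]
    have hnot : rv (V x) hu ≠ rv (V y) hv := fun h => hne (congrArg Subtype.val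
      (img_inj hT hS.trans hS.twinFree hd (x := ⟨x, nb_subset hx⟩) (y := ⟨y, nb_subset hy⟩) hx hy
        (e.injective (eu.trans (h.trans ev.symm)))))
    have h1 : V y ≠ V x := fun h => hnot (rv_congr hu hv (Or.inl h.symm))
    have h2 : V y ≠ -V x := fun h => hnot (rv_congr hu hv (Or.inr (by rw [h, neg_neg])))
    refine ⟨fun h => ?_, fun h => ?_⟩
    · by_contra hB
      have hbr : rv (V x) hu * rv (V y) hv * rv (V x) hu = rv (V y) hv * rv (V x) hu * rv (V y) hv :=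
        congrArg QuotientGroup.mk (Subtype.ext (Mod3.refl_braid hc hu hv hB) :
          (⟨Mod3.refl hc _ hu, Mod3.refl_mem hc hu⟩ * ⟨Mod3.refl hc _ hv, Mod3.refl_mem hc hv⟩ *
              ⟨Mod3.refl hc _ hu, Mod3.refl_mem hc hu⟩ : ↥(Cfsg.reflectionSubgroup (⇑Q) c)) =
            ⟨Mod3.refl hc _ hv, Mod3.refl_mem hc hv⟩ * ⟨Mod3.refl hc _ hu, Mod3.refl_mem hc hu⟩ *
              ⟨Mod3.refl hc _ hv, Mod3.refl_mem hc hv⟩)
      rw [h.eq, mul_assoc, mul_assoc] at hbr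
      exact hnot (mul_left_cancel (mul_left_cancel hbr))
    · exact congrArg QuotientGroup.mk (Subtype.ext ((Mod3.commute_refl_iff hc hu hv h1 h2).2 h).eq :
        (⟨Mod3.refl hc _ hu, Mod3.refl_mem hc hu⟩ * ⟨Mod3.refl hc _ hv, Mod3.refl_mem hc hv⟩ :
            ↥(Cfsg.reflectionSubgroup (⇑Q) c)) =
          ⟨Mod3.refl hc _ hv, Mod3.refl_mem hc hv⟩ * ⟨Mod3.refl hc _ hu, Mod3.refl_mem hc hu⟩)
  · intro x hx y hy
    obtain ⟨hu, eu⟩ := hV x hx
    obtain ⟨hv, ev⟩ := hV y hy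
    have hz := nb_closed hT hx hy
    obtain ⟨hw, ew⟩ := hV _ hz
    obtain ⟨hw', ew'⟩ := rv_conj hv hu
    refine pm_of_mk_eq (hQ := hQ) (hc := hc) h5 hw hw' ?_
    show rv _ hw = rv _ hw'
    rw [← ew, ← ew', ← eu, ← ev, ← map_inv e, ← map_mul e, ← map_mul e]
    rfl

end Cfsg.Agent.FischerO3
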