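import Cfsg.Agent.Lib.FischerO3.Sign
import Cfsg.Agent.Lib.FischerO3.Views

set_option autoImplicit false

/-!
The step from the neighbour quotient to the group, for projective reflection groups over three elements.
-/

namespace Cfsg.Agent.FischerO3

open Cfsg.Agent.Fischer Cfsg.Agent.Fischer.Factor Cfsg.Agent.FischerClass
open Cfsg.Agent.Fischer.LocalSymThree (nb nb_symm)
open QuadraticMap

variable {G : Type*} [Group G] {D : Set G} {n : ℕ}

/-- The form on one more dimension. -/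
noncomputable def extQ (Q : QuadraticForm (ZMod 3) (Fin n → ZMod 3)) (c : ZMod 3) :
    QuadraticForm (ZMod 3) (Fin (n + 1) → ZMod 3) :=
  (c • (QuadraticMap.sq (R := ZMod 3))).comp (LinearMap.proj 0) +
    Q.comp (LinearMap.funLeft (ZMod 3) (ZMod 3) Fin.succ)

theorem extQ_cons (Q : QuadraticForm (ZMod 3) (Fin n → ZMod 3)) (c a : ZMod 3) (w : Fin n → ZMod 3) :
    extQ Q c (Fin.cons a w) = c * (a * a) + Q w := by
  simp [extQ, LinearMap.funLeft, Function.comp_def]

theorem extQ_polar (Q : QuadraticForm (ZMod 3) (Fin n → ZMod 3)) (c a b : ZMod 3) (u w : Fin n → ZMod 3) :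
    polar (⇑(extQ Q c)) (Fin.cons a u) (Fin.cons b w) = -(c * (a * b)) + polar (⇑Q) u w := by
  have h : (Fin.cons a u + Fin.cons b w : Fin (n + 1) → ZMod 3) = Fin.cons (a + b) (u + w) :=
    funext fun i => Fin.cases (by simp) (fun j => by simp) i
  rw [polar, polar, h, extQ_cons, extQ_cons, extQ_cons,
    show -(c * (a * b)) = c * (a * b) + c * (a * b) from
      (by decide : ∀ t : ZMod 3, -t = t + t) (c * (a * b))]
  ring

theorem extQ_nondeg {Q : QuadraticForm (ZMod 3) (Fin n → ZMod 3)}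
    (hQ : (QuadraticMap.polarBilin Q).Nondegenerate) {c : ZMod 3} (hc : c ≠ 0) :
    (QuadraticMap.polarBilin (extQ Q c)).Nondegenerate := by
  have key : ∀ v, (∀ w, polar (⇑(extQ Q c)) v w = 0) → v = 0 := by
    intro v h
    obtain ⟨a, u, rfl⟩ : ∃ a u, v = Fin.cons a u := ⟨v 0, Fin.tail v, (Fin.cons_self_tail v).symm⟩
    have h0 := h (Fin.cons 1 0)
    rw [extQ_polar, polar_zero_right, add_zero, mul_one, neg_eq_zero, mul_eq_zero, or_iff_right hc] at h0
    have hu : u = 0 := hQ.1 u fun w => by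
      have := h (Fin.cons 0 w)
      rwa [extQ_polar, mul_zero, mul_zero, neg_zero, zero_add] at this
    subst h0 hu
    exact funext fun i => Fin.cases rfl (fun j => rfl) i
  exact ⟨fun v h => key v h, fun v h => key v fun w => by rw [polar_comm]; exact h w⟩

theorem cons_pm {a b : ZMod 3} {u w : Fin n → ZMod 3}
    (h : PM (Fin.cons a u : Fin (n + 1) → ZMod 3) (Fin.cons b w)) : (a = b ∧ u = w) ∨ (a = -b ∧ u = -w) := by
  rcases h with h | h
  · exact Or.inl ⟨by simpa using congrFun h 0, funext fun j => by simpa using congrFun h j.succ⟩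
  · exact Or.inr ⟨by simpa using congrFun h 0, funext fun j => by simpa using congrFun h j.succ⟩

theorem cons_neg_smul (a : ZMod 3) (b : ZMod 3) (u : Fin n → ZMod 3) :
    a • (Fin.cons b u : Fin (n + 1) → ZMod 3) = Fin.cons (a * b) (a • u) :=
  funext fun i => Fin.cases (by simp) (fun j => by simp) i

variable [Finite G]

/-- The step for projective reflection groups over three elements. -/
theorem step (hL : Loc D) {d : G} (hd : d ∈ D) (hn : 5 ≤ n) (h : IsOThree (img D d) n) :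
    IsOThree D (n + 1) := by
  classical
  obtain ⟨Q, hQ, c, hc, e, he⟩ := h
  obtain ⟨A⟩ := exists_view hL.toStd hd hQ hn hc e he
  have hT := hL.tg
  have hC : Cx D (formOf Q hQ hc) := by
    refine ⟨hT, fun t ht => ?_, by rw [Module.finrank_fin_fun]; exact hn, fun t ht c' hc' hnc => ?_⟩
    · obtain ⟨g, rfl⟩ := hL.trans d hd t ht
      exact ⟨A.move hT g⟩
    · obtain ⟨p, hp, q, hq, x, hx, -, -, hpq, -, -, hxp, hxq, -, -⟩ := hL.exists_edge
      obtain ⟨g, rfl⟩ := hL.trans p hp t ht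
      obtain ⟨m, hm, hmc⟩ := prim_trans_noncommuting hT hL.prim hL.width ht (g * q * g⁻¹) (hT.2.1 g q hq)
        c' hc' (fun hh => hpq ((commute_conj_iff g p q).1 hh)) hnc
      have hmt : m * (g * p * g⁻¹) * m⁻¹ = g * p * g⁻¹ :=
        conj_eq_self_of_commute (commute_of_mem_commClosure hm)
      have hx' : g * x * g⁻¹ ∈ nb D (g * p * g⁻¹) :=
        nb_conj_mem hT g ⟨hx, fun hh => hpq (hh ▸ hxq), hxp.symm⟩
      refine ⟨m * (g * x * g⁻¹) * m⁻¹, ?_, ?_⟩
      · have := nb_conj_mem hT m hx'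
        rwa [hmt] at this
      · rw [← hmc, commute_conj_iff, commute_conj_iff]
        exact hxq.symm
  obtain ⟨σ, hσV, hσc, hσi, hσs⟩ := exists_signed hC hd A
  let φ : G → Fin (n + 1) → ZMod 3 := fun x =>
    if x = d then Fin.cons 1 0 else if x ∈ nb D d then Fin.cons 0 (A.toV x) else Fin.cons (-1) (σ x)
  have cases3 : ∀ x ∈ D, (x = d ∧ φ x = Fin.cons 1 0) ∨ (x ∈ nb D d ∧ φ x = Fin.cons 0 (A.toV x)) ∨
      (¬ Commute d x ∧ φ x = Fin.cons (-1) (σ x)) := by
    intro x hx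
    by_cases h1 : x = d
    · exact Or.inl ⟨h1, if_pos h1⟩
    by_cases h2 : x ∈ nb D d
    · exact Or.inr (Or.inl ⟨h2, (if_neg h1).trans (if_pos h2)⟩)
    · exact Or.inr (Or.inr ⟨fun hh => h2 ⟨hx, h1, hh⟩, (if_neg h1).trans (if_neg h2)⟩)
  have φd : φ d = Fin.cons 1 0 := if_pos rfl
  have φn : ∀ x ∈ nb D d, φ x = Fin.cons 0 (A.toV x) := fun x hx => (if_neg hx.2.1).trans (if_pos hx)
  have φm : ∀ x, ¬ Commute d x → φ x = Fin.cons (-1) (σ x) := fun x hx =>
    (if_neg fun hh : x = d => hx (hh ▸ Commute.refl d)).trans (if_neg fun hh : x ∈ nb D d => hx hh.2.2)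
  have zeroQ : ∀ {w}, (formOf Q hQ hc).B w w = 0 → Q w = 0 := fun {w} hw => by
    rw [formOf_B, polar_self, two_nsmul] at hw
    exact (by decide : ∀ a b : ZMod 3, a ≠ 0 → a * (b + b) = 0 → b = 0) c (Q w) hc hw
  refine recog hT hL.cz (extQ Q c) (extQ_nondeg hQ hc) (by omega) hc φ ?_ ?_ ?_ ?_
  · intro x hx
    rcases cases3 x hx with ⟨-, e⟩ | ⟨h, e⟩ | ⟨h, e⟩ <;> rw [e, extQ_cons]
    · simp
    · rw [(formOf_pt _).1 (A.pt x h), mul_zero, mul_zero, zero_add]
    · rw [zeroQ (hσV x hx h).1.2]; simp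
  · intro x hx y hy hp
    rcases cases3 x hx with ⟨a, e⟩ | ⟨a, e⟩ | ⟨a, e⟩ <;>
      rcases cases3 y hy with ⟨b, e'⟩ | ⟨b, e'⟩ | ⟨b, e'⟩ <;> rw [e, e'] at hp
    · rw [a, b]
    · rcases cons_pm hp with ⟨h1, -⟩ | ⟨h1, -⟩ <;> exact absurd h1 (by decide)
    · rcases cons_pm hp with ⟨-, h1⟩ | ⟨-, h1⟩
      · exact absurd h1.symm (hσV y hy b).1.1
      · exact absurd (neg_eq_zero.1 h1.symm) (hσV y hy b).1.1
    · rcases cons_pm hp with ⟨h1, -⟩ | ⟨h1, -⟩ <;> exact absurd h1 (by decide)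
    · exact A.inj x a y b ((cons_pm hp).imp And.right And.right)
    · rcases cons_pm hp with ⟨h1, -⟩ | ⟨h1, -⟩ <;> exact absurd h1 (by decide)
    · rcases cons_pm hp with ⟨-, h1⟩ | ⟨-, h1⟩
      · exact absurd h1 (hσV x hx a).1.1
      · exact absurd (h1.trans neg_zero) (hσV x hx a).1.1
    · rcases cons_pm hp with ⟨h1, -⟩ | ⟨h1, -⟩ <;> exact absurd h1 (by decide)
    · rcases cons_pm hp with ⟨-, h1⟩ | ⟨h1, -⟩
      · exact hσi x hx y hy a b h1
      · exact absurd h1 (by decide)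
  · intro v hv
    obtain ⟨a, w, rfl⟩ : ∃ a w, v = Fin.cons a w := ⟨v 0, Fin.tail v, (Fin.cons_self_tail v).symm⟩
    rw [extQ_cons] at hv
    by_cases ha : a = 0
    · subst ha
      rw [mul_zero, mul_zero, zero_add] at hv
      obtain ⟨x, hx, hp⟩ := A.surj w ((formOf_pt w).2 hv)
      refine ⟨x, hx.1, ?_⟩
      rw [φn x hx]
      rcases hp with hp | hp
      · exact Or.inl (by rw [hp])
      · exact Or.inr (funext fun i => Fin.cases (by simp) (fun j => by simp [hp]) i)
    · rw [sq_one3 ha, mul_one] at hv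
      have hw : Q w = 0 := add_left_cancel (hv.trans (add_zero c).symm)
      by_cases hw0 : w = 0
      · refine ⟨d, hd, ?_⟩
        rw [φd, hw0]
        refine PM.of_smul ha ?_
        rw [cons_neg_smul, sq_one3 ha, smul_zero]
      · have hu : (formOf Q hQ hc).IsIso (-a • w) := ⟨smul_ne_zero (neg_ne_zero.2 ha) hw0, by
          rw [Form.self_smul, formOf_B, polar_self, hw, smul_zero, mul_zero, mul_zero]⟩
        obtain ⟨x, hx, hnx, hxu⟩ := hσs _ hu
        refine ⟨x, hx, ?_⟩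
        rw [φm x hnx, hxu]
        refine PM.of_smul (neg_ne_zero.2 ha) ?_
        rw [cons_neg_smul, neg_mul, sq_one3 ha]
  · intro x hx y hy hne
    rcases cases3 x hx with ⟨a, e⟩ | ⟨a, e⟩ | ⟨a, e⟩ <;>
      rcases cases3 y hy with ⟨b, e'⟩ | ⟨b, e'⟩ | ⟨b, e'⟩ <;> rw [e, e', extQ_polar]
    · exact absurd (a.trans b.symm) hne
    · rw [a, mul_zero, mul_zero, neg_zero, polar_zero_left, add_zero]
      exact iff_of_true b.2.2 rfl
    · rw [a, polar_zero_left, add_zero, one_mul, mul_neg, mul_one, neg_neg]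
      exact iff_of_false b hc
    · rw [b, zero_mul, mul_zero, neg_zero, polar_zero_right, add_zero]
      exact iff_of_true a.2.2.symm rfl
    · rw [zero_mul, mul_zero, neg_zero, zero_add, A.comm x a y b hne, formOf_zero]
    · rw [zero_mul, mul_zero, neg_zero, zero_add,
        show Commute x y ↔ Commute y x from ⟨Commute.symm, Commute.symm⟩, (hσV y hy b).2 x a, formOf_zero,
        polar_comm]
    · rw [b, polar_zero_right, add_zero, neg_mul, one_mul, mul_neg, mul_one, neg_neg]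
      exact iff_of_false (fun hh => a hh.symm) hc
    · rw [mul_zero, mul_zero, neg_zero, zero_add, (hσV x hx a).2 y b, formOf_zero]
    · have hh := hσc x hx y hy a b
      rw [formOf_B] at hh
      refine ⟨fun h1 => ?_, fun h1 => (hh.2 ?_).2⟩
      · have h2 := hh.1 ⟨hne, h1⟩
        exact (by decide : ∀ c p : ZMod 3, c * p = 1 → -(c * (-1 * -1)) + p = 0) _ _ h2
      · exact (by decide : ∀ c p : ZMod 3, c ≠ 0 → -(c * (-1 * -1)) + p = 0 → c * p = 1) _ _ hc h1

end Cfsg.Agent.FischerO3
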