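import Cfsg.Agent.Lib.FischerO3.Lines
import Cfsg.Agent.Lib.Fischer.Transitive
import Cfsg.Agent.Lib.Fischer.OddCoreLocal

set_option autoImplicit false

/-!
Labellings of the partners of a member by points, and the motions they induce.
-/

namespace Cfsg.Agent.FischerO3

open Cfsg.Agent.Fischer
open Cfsg.Agent.Fischer.LocalSymThree (nb nb_symm)

variable {G : Type*} [Group G] {D : Set G}
variable {W : Type*} [AddCommGroup W] [Module (ZMod 3) W]

/-- A labelling of the partners of `d` by the points of a form. -/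
structure View (D : Set G) (F : Form W) (d : G) where
  toV : G → W
  pt : ∀ x ∈ nb D d, F.IsPt (toV x)
  inj : ∀ x ∈ nb D d, ∀ y ∈ nb D d, PM (toV x) (toV y) → x = y
  surj : ∀ v, F.IsPt v → ∃ x ∈ nb D d, PM (toV x) v
  comm : ∀ x ∈ nb D d, ∀ y ∈ nb D d, x ≠ y → (Commute x y ↔ F.B (toV x) (toV y) = 0)
  conj : ∀ x ∈ nb D d, ∀ y ∈ nb D d, PM (toV (y * x * y⁻¹)) (F.refl (toV y) (toV x))

theorem nb_conj_mem (hT : IsThreeTranspositionGroup D) (g : G) {d y : G} (hy : y ∈ nb D d) :
    g * y * g⁻¹ ∈ nb D (g * d * g⁻¹) :=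
  ⟨hT.2.1 g y hy.1, fun h => hy.2.1 (mul_left_cancel (mul_right_cancel h)),
    (commute_conj_iff g d y).2 hy.2.2⟩

theorem nb_conj_fix (hT : IsThreeTranspositionGroup D) {g d y : G} (hg : g * d * g⁻¹ = d)
    (hy : y ∈ nb D d) : g * y * g⁻¹ ∈ nb D d := by
  simpa only [hg] using nb_conj_mem hT g hy

theorem nb_closed (hT : IsThreeTranspositionGroup D) {d x y : G} (hx : x ∈ nb D d) (hy : y ∈ nb D d) :
    y * x * y⁻¹ ∈ nb D d :=
  nb_conj_fix hT (conj_eq_self_of_commute hy.2.2.symm) hx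

/-- The common partners of `d` and `x` are closed under conjugation. -/
theorem nb2_closed (hT : IsThreeTranspositionGroup D) {d x a b : G} (had : a ∈ nb D d) (hax : a ∈ nb D x)
    (hbd : b ∈ nb D d) (hbx : b ∈ nb D x) : a * b * a⁻¹ ∈ nb D d ∧ a * b * a⁻¹ ∈ nb D x :=
  ⟨nb_closed hT hbd had, nb_closed hT hbx hax⟩

namespace View

variable {F : Form W} {d : G} (A : View D F d)

theorem B_zero_iff {x y : G} (hx : x ∈ nb D d) (hy : y ∈ nb D d) :
    F.B (A.toV x) (A.toV y) = 0 ↔ x ≠ y ∧ Commute x y := by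
  by_cases e : x = y
  · subst e
    rw [(A.pt x hx).self]
    simp
  · simp [e, A.comm x hx y hy e]

theorem not_commute_B {x y : G} (hx : x ∈ nb D d) (hy : y ∈ nb D d) (h : ¬ Commute x y) :
    F.B (A.toV x) (A.toV y) ≠ 0 := fun e => h ((A.B_zero_iff hx hy).1 e).2

theorem not_pm {x y : G} (hx : x ∈ nb D d) (hy : y ∈ nb D d) (h : y ≠ x) :
    ¬ PM (A.toV y) (A.toV x) := fun e => h (A.inj y hy x hx e)

end View

/-- The isotropic vector of the line through two partners, as seen in a labelling. -/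
def View.lv {F : Form W} {d : G} (A : View D F d) (a b : G) : W := F.lineVec (A.toV a) (A.toV b)

/-- Orthogonality to the vector of a line does not depend on the labelling. -/
theorem View.lv_transfer (hT : IsThreeTranspositionGroup D) {F : Form W} {d x : G} (A : View D F d)
    (A' : View D F x) {a b u : G} (had : a ∈ nb D d) (hax : a ∈ nb D x) (hbd : b ∈ nb D d)
    (hbx : b ∈ nb D x) (hab : ¬ Commute a b) (hud : u ∈ nb D d) (hux : u ∈ nb D x) :
    F.B (A.lv a b) (A.toV u) = 0 ↔ F.B (A'.lv a b) (A'.toV u) = 0 := by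
  obtain ⟨hcd, hcx⟩ := nb2_closed hT had hax hbd hbx
  have key : ∀ {e : G} (A : View D F e), a ∈ nb D e → b ∈ nb D e → a * b * a⁻¹ ∈ nb D e → u ∈ nb D e →
      (F.B (A.lv a b) (A.toV u) = 0 ↔
        (((a ≠ u ∧ Commute a u) ↔ (b ≠ u ∧ Commute b u)) ∧
          ((a ≠ u ∧ Commute a u) ↔ (a * b * a⁻¹ ≠ u ∧ Commute (a * b * a⁻¹) u)))) := by
    intro e A ha hb hc hu
    rw [View.lv, Form.lineVec_iff (A.not_commute_B ha hb hab), ← A.B_zero_iff ha hu, ← A.B_zero_iff hb hu,
      ← A.B_zero_iff hc hu, Form.pm_B_zero (A.conj b hb a ha)]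
  rw [key A had hbd hcd hud, key A' hax hbx hcx hux]

/-- A linear motion of the space induced by conjugation. -/
structure Motion {F : Form W} {d : G} (A : View D F d) (g : G) (ρ : W → W) : Prop where
  fix : g * d * g⁻¹ = d
  form : ∀ u v, F.B (ρ u) (ρ v) = F.B u v
  lin : ∀ (a : ZMod 3) u v, ρ (a • u + v) = a • ρ u + ρ v
  act : ∀ x ∈ nb D d, PM (A.toV (g * x * g⁻¹)) (ρ (A.toV x))

namespace Motion

variable {F : Form W} {d : G} {A : View D F d}

theorem of_nb {y : G} (hy : y ∈ nb D d) : Motion A y (F.refl (A.toV y)) where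
  fix := conj_eq_self_of_commute hy.2.2.symm
  form := Form.refl_form (A.pt y hy)
  lin a u v := by rw [Form.refl_add, Form.refl_smul]
  act x hx := A.conj x hx y hy

theorem map_zero {g : G} {ρ : W → W} (M : Motion A g ρ) : ρ 0 = 0 := by
  have := M.lin 1 0 0
  simpa using this

theorem map_add {g : G} {ρ : W → W} (M : Motion A g ρ) (u v : W) : ρ (u + v) = ρ u + ρ v := by
  simpa using M.lin 1 u v

theorem map_smul {g : G} {ρ : W → W} (M : Motion A g ρ) (a : ZMod 3) (u : W) : ρ (a • u) = a • ρ u := by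
  simpa [M.map_zero] using M.lin a u 0

theorem map_pm {g : G} {ρ : W → W} (M : Motion A g ρ) {u v : W} (h : PM u v) : PM (ρ u) (ρ v) := by
  rcases h with rfl | rfl
  · exact PM.rfl
  · exact Or.inr (by rw [← neg_one_smul (ZMod 3) v, M.map_smul, neg_one_smul])

theorem mul (hT : IsThreeTranspositionGroup D) {g h : G} {ρ τ : W → W} (M : Motion A g ρ)
    (N : Motion A h τ) : Motion A (g * h) (ρ ∘ τ) where
  fix := by
    rw [mul_inv_rev, show g * h * d * (h⁻¹ * g⁻¹) = g * (h * d * h⁻¹) * g⁻¹ by group, N.fix, M.fix]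
  form u v := (M.form _ _).trans (N.form u v)
  lin a u v := by simp only [Function.comp_apply, N.lin, M.lin]
  act x hx := by
    rw [mul_inv_rev, show g * h * x * (h⁻¹ * g⁻¹) = g * (h * x * h⁻¹) * g⁻¹ by group]
    exact (M.act _ (nb_conj_fix hT N.fix hx)).trans (M.map_pm (N.act x hx))

end Motion

end Cfsg.Agent.FischerO3
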